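import Cfsg.Agent.Stellmacher.Square
import Cfsg.Agent.JComp.CenterCases
import Cfsg.Agent.JComp.Unique
import Cfsg.Agent.SolvStruct.Subnormalizer

/-!
Two maximal 2-local subgroups of a group with solvable 2-locals of characteristic 2 without a section
`S₄` have no nontrivial common 2-subgroup.
-/

set_option autoImplicit false
set_option linter.unusedSectionVars false
set_option linter.style.haveILetI false

namespace Cfsg.Lib.Stellmacher

open Subgroup
open scoped commutatorElement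
open Cfsg.Lib.JComp

universe u

variable {G : Type u} [Group G] [Finite G]

theorem good_of (M : Subgroup G) (h : Group.IsSolvable M ∧ Cfsg.IsOfCharacteristicTwo ↥M ∧
    ¬ Cfsg.Involves (Equiv.Perm (Fin 4)) ↥M) : Good M := by
  refine ⟨h.1, fun x hx => ?_, h.2.2⟩
  refine mem_core.1 (h.2.1 (mem_centralizer_iff.2 fun y hy => Subtype.ext ?_) : (⟨x, hx.1⟩ : M) ∈ Cfsg.pCore 2 M)
  exact mem_centralizer_iff.1 hx.2 y (mem_core.1 hy)

theorem core_ne_bot {M : Subgroup G} (hM : Cfsg.IsTwoLocal M) : Cfsg.pCoreOf 2 M ≠ ⊥ := by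
  obtain ⟨T, hT, hT1, rfl⟩ := hM
  exact fun e => hT1 (le_bot_iff.1 (e ▸ le_pCoreOf hT le_normalizer le_rfl))

theorem maximal_eq_normalizer {M Q : Subgroup G} (hM : Cfsg.IsMaximalTwoLocal M) (hQ : IsPGroup 2 Q)
    (hQ1 : Q ≠ ⊥) (hle : M ≤ normalizer (Q : Set G)) : normalizer (Q : Set G) = M :=
  hM.2 _ ⟨Q, hQ, hQ1, rfl⟩ hle

theorem normalizer_maximal {M : Subgroup G} (hM : Cfsg.IsMaximalTwoLocal M) :
    normalizer (M : Set G) ≤ M :=
  (normalizer_le_pCoreOf 2 M).trans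
    (maximal_eq_normalizer hM (isPGroup_pCoreOf _) (core_ne_bot hM.1) (le_normalizer_core M)).le

theorem maximal_cj {M : Subgroup G} (hM : Cfsg.IsMaximalTwoLocal M) (g : G) :
    Cfsg.IsMaximalTwoLocal (cj g M) := by
  have hloc : ∀ (x : G) (L : Subgroup G), Cfsg.IsTwoLocal L → Cfsg.IsTwoLocal (cj x L) := by
    rintro x L ⟨T, hT, hT1, rfl⟩
    refine ⟨cj x T, hT.map _, fun e => hT1 ?_, (normalizer_cj x T).symm⟩
    rwa [map_eq_bot_iff_of_injective _ (MulAut.conj x).injective] at e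
  refine ⟨hloc g M hM.1, fun N hN hle => ?_⟩
  have h := hM.2 (cj g⁻¹ N) (hloc _ _ hN) (by rw [← cj_inv_cj g M]; exact map_mono hle)
  rw [← h, cj_cj_inv]

section

variable (hloc : ∀ M : Subgroup G, Cfsg.IsTwoLocal M → Good M)
include hloc

/-- A 2-group which is a Sylow subgroup of maximal 2-local subgroups determines them. -/
theorem exists_module {D : Subgroup G} (hD : IsPGroup 2 D) (hD1 : D ≠ ⊥) :
    ∃ V : Subgroup G, ∀ M : Subgroup G, Cfsg.IsMaximalTwoLocal M → Cfsg.IsSylowTwoIn D M →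
      M = normalizer (V : Set G) ∧ normalizer (D : Set G) ≤ M := by
  haveI : Fact (Nat.Prime 2) := ⟨Nat.prime_two⟩
  set J := Jof D with hJ
  set H := normalizer (J : Set G) with hH
  have hJ2 : IsPGroup 2 J := hD.to_le (jof_le D)
  have hJ1 : J ≠ ⊥ := Cfsg.Lib.Thompson.thompsonSubgroupOf_ne_bot hD hD1
  have hND : normalizer (D : Set G) ≤ H := fun g hg => mem_normalizer_of_cj (by
    rw [hJ, ← jof_cj, cj_eq_self hg])
  obtain ⟨D₁, hDD₁, hD₁⟩ := exists_sylowIn (le_normalizer.trans hND) hD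
  set Z := Cfsg.omegaCenterOf D₁ with hZ
  set V := closure {y : G | ∃ h ∈ H, ∃ z ∈ Z, h * z * h⁻¹ = y} with hV
  refine ⟨V, fun M hM hDM => ?_⟩
  have hDM1 := hDM.1
  have hMg := hloc M hM.1
  have hQD : Cfsg.pCoreOf 2 M ≤ D := core_le_syl hDM
  have hZc : Z ≤ centralizer (D : Set G) := fun z hz =>
    mem_centralizer_iff.2 fun d hd => (mem_omegaCenterOf.1 hz).2.1 d (hDD₁ hd)
  have hZQ : Z ≤ Cfsg.pCoreOf 2 M := fun z hz => hMg.char2 ⟨by
    rw [← maximal_eq_normalizer hM (isPGroup_pCoreOf _) (core_ne_bot hM.1) (le_normalizer_core M)]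
    exact centralizer_le_normalizer _ (centralizer_le hQD (hZc hz)), centralizer_le hQD (hZc hz)⟩
  have hZJ : Z ≤ Cfsg.omegaCenterOf J := by
    intro z hz
    have hzc : ∀ d ∈ D, d * z = z * d := fun d hd => mem_centralizer_iff.1 (hZc hz) d hd
    refine mem_omegaCenterOf.2 ⟨?_, fun y hy => hzc y (jof_le D hy), (mem_omegaCenterOf.1 hz).2.2⟩
    obtain ⟨A, hA⟩ := Cfsg.Lib.Thompson.exists_isMaxElem (p := 2) D
    set E := closure ((A : Set G) ∪ {z}) with hE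
    have hcl : ∀ x ∈ (A : Set G) ∪ {z}, ∀ y ∈ (A : Set G) ∪ {z}, x * y = y * x := by
      rintro x (hx | rfl) y (hy | rfl)
      · exact elem_comm hA.2.1 hx hy
      · exact hzc x (hA.1 hx)
      · exact (hzc y (hA.1 hy)).symm
      · rfl
    have hEe : Cfsg.IsElementaryAbelian 2 E := by
      have h1 : E ≤ centralizer (E : Set G) := by
        rw [hE, le_centralizer_iff, closure_le]
        intro x hx
        have : closure ((A : Set G) ∪ {z}) ≤ centralizer ({x} : Set G) := (closure_le _).2 fun y hy =>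
          mem_centralizer_singleton_iff.2 (hcl y hy x hx)
        exact mem_centralizer_iff.2 fun y hy => mem_centralizer_singleton_iff.1 (this hy)
      refine elem_of_sq fun x hx => ?_
      induction hx using closure_induction with
      | mem y hy =>
        rcases hy with hy | rfl
        · exact elem_sq hA.2.1 hy
        · exact (mem_omegaCenterOf.1 hz).2.2
      | one => exact one_mul 1
      | mul u v hu hv ihu ihv =>
        have huv : u * v = v * u := (mem_centralizer_iff.1 (h1 hu) v hv).symm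
        calc u * v * (u * v) = u * (v * u) * v := by group
          _ = u * u * (v * v) := by rw [← huv]; group
          _ = 1 := by rw [ihu, ihv, one_mul]
      | inv u _ ihu => rw [inv_eq_of_mul_eq_one_right ihu]; exact ihu
    have hAE : A ≤ E := fun x hx => subset_closure (Or.inl hx)
    have hED : E ≤ D := (closure_le _).2 (by
      rintro x (hx | rfl)
      · exact hA.1 hx
      · exact hQD (hZQ hz))
    rw [hJ]
    have he : A = E := eq_of_le_of_card_ge hAE (hA.2.2 E hED hEe)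
    exact maxE_le_jof hA (he ▸ subset_closure (Or.inr rfl))
  have hHO : H ≤ normalizer (Cfsg.omegaCenterOf J : Set G) := normalizer_le_omegaCenterOf J
  have hVO : V ≤ Cfsg.omegaCenterOf J := (closure_le _).2 (by
    rintro _ ⟨h, hh, z, hz, rfl⟩
    exact conj_mem (hHO hh) (hZJ hz))
  have hVe : Cfsg.IsElementaryAbelian 2 V :=
    elem_of_sq fun v hv => elem_sq (elem_omegaCenterOf J) (hVO hv)
  have hZV : Z ≤ V := fun z hz => subset_closure ⟨1, one_mem _, z, hz, by simp⟩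
  have hV1 : V ≠ ⊥ := fun e => omegaCenterOf_ne_bot hD₁.2.1
    (fun e' => hD1 (le_bot_iff.1 (e' ▸ hDD₁))) (le_bot_iff.1 (e ▸ hZV))
  have hHV : H ≤ normalizer (V : Set G) := le_normalizer_of_conj fun g hg x hx => by
    have h : V ≤ V.comap (MulAut.conj g).toMonoidHom := (closure_le _).2 (by
      rintro _ ⟨h, hh, z, hz, rfl⟩
      refine subset_closure ⟨g * h, mul_mem hg hh, z, hz, ?_⟩
      show _ = g * (h * z * h⁻¹) * g⁻¹
      group)
    exact h hx
  have hVD : V ≤ D := (hVO.trans (omegaCenterOf_le J)).trans (jof_le D)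
  have hVH : V ≤ H := hVD.trans (le_normalizer.trans hND)
  have hsq : Sq D V := (sq_of_generated (hloc H ⟨J, hJ2, hJ1, rfl⟩) hD₁ hHV hVe hVH hZV
    (le_centralizer_iff.1 fun z hz => mem_centralizer_iff.2 fun d hd => (mem_omegaCenterOf.1 hz).2.1 d hd)
    (fun C hC => (closure_le _).2 (by rintro _ ⟨h, hh, z, hz, rfl⟩; exact hC h hh z hz))).mono hDD₁
  have hF : Frame M D V := ⟨hMg, hDM, hVD, le_normalizer.trans (hND.trans hHV), hVe, hsq⟩
  have hVJ : V ≤ centralizer (J : Set G) := fun v hv =>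
    mem_centralizer_iff.2 fun y hy => (mem_omegaCenterOf.1 (hVO hv)).2.1 y hy
  have hMV := maximal_eq_normalizer hM (elem_isPGroup hVe) hV1
    (normal_of_thompson hF hVJ (inf_le_right.trans hHV))
  exact ⟨hMV.symm, hND.trans (hHV.trans hMV.le)⟩

/-- Maximal 2-locals with a common nontrivial 2-subgroup are equal. -/
theorem maximal_unique {M M' W : Subgroup G} (hM : Cfsg.IsMaximalTwoLocal M)
    (hM' : Cfsg.IsMaximalTwoLocal M') (hW : IsPGroup 2 W) (hW1 : W ≠ ⊥) (h : W ≤ M) (h' : W ≤ M') : M = M' := by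
  classical
  haveI : Fact (Nat.Prime 2) := ⟨Nat.prime_two⟩
  by_contra hne
  obtain ⟨⟨M₁, M₂, D⟩, ⟨h1, h2, h12, hD, hD1, hD₁, hD₂⟩, hmax⟩ := Set.exists_max_image
    {p : Subgroup G × Subgroup G × Subgroup G | Cfsg.IsMaximalTwoLocal p.1 ∧ Cfsg.IsMaximalTwoLocal p.2.1 ∧
      p.1 ≠ p.2.1 ∧ IsPGroup 2 p.2.2 ∧ p.2.2 ≠ ⊥ ∧ p.2.2 ≤ p.1 ∧ p.2.2 ≤ p.2.1}
    (fun p => Nat.card p.2.2) (Set.toFinite _) ⟨(M, M', W), hM, hM', hne, hW, hW1, h, h'⟩
  -- no larger common 2-subgroup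
  have hbig : ∀ L₁ L₂ : Subgroup G, Cfsg.IsMaximalTwoLocal L₁ → Cfsg.IsMaximalTwoLocal L₂ →
      ∀ E : Subgroup G, IsPGroup 2 E → D < E → E ≤ L₁ → E ≤ L₂ → L₁ = L₂ := by
    intro L₁ L₂ hL₁ hL₂ E hE hlt hE₁ hE₂
    by_contra hne'
    have hE1 : E ≠ ⊥ := fun e => not_lt_bot (e ▸ hlt)
    exact hlt.ne (eq_of_le_of_card_ge hlt.le (hmax (L₁, L₂, E) ⟨hL₁, hL₂, hne', hE, hE1, hE₁, hE₂⟩))
  have hgrow : ∀ L : Subgroup G, D ≤ L → ¬ Cfsg.IsSylowTwoIn D L →
      ∃ E : Subgroup G, IsPGroup 2 E ∧ D < E ∧ E ≤ L ∧ E ≤ normalizer (D : Set G) := by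
    intro L hL hns
    obtain ⟨S, hDS, hS⟩ := exists_sylowIn hL hD
    have hlt : D < S := lt_of_le_of_ne hDS fun e => hns (e ▸ hS)
    exact ⟨_, hS.2.1.to_le inf_le_left, Cfsg.Lib.Subnormalizer.lt_inf_normalizer hS.2.1 hlt,
      inf_le_left.trans hS.1, inf_le_right⟩
  have hsyl : ∀ L₁ L₂ : Subgroup G, Cfsg.IsMaximalTwoLocal L₁ → Cfsg.IsMaximalTwoLocal L₂ →
      Cfsg.IsSylowTwoIn D L₁ → D ≤ L₂ → L₁ = L₂ := by
    intro L₁ L₂ hL₁ hL₂ hS₁ hle
    obtain ⟨V, hV⟩ := exists_module hloc hD hD1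
    by_cases hS₂ : Cfsg.IsSylowTwoIn D L₂
    · rw [(hV L₁ hL₁ hS₁).1, (hV L₂ hL₂ hS₂).1]
    obtain ⟨E, hE, hlt, hEL, hEn⟩ := hgrow L₂ hle hS₂
    exact hbig L₁ L₂ hL₁ hL₂ E hE hlt (hEn.trans (hV L₁ hL₁ hS₁).2) hEL
  by_cases hS₁ : Cfsg.IsSylowTwoIn D M₁
  · exact h12 (hsyl M₁ M₂ h1 h2 hS₁ hD₂)
  by_cases hS₂ : Cfsg.IsSylowTwoIn D M₂
  · exact h12 (hsyl M₂ M₁ h2 h1 hS₂ hD₁).symm
  obtain ⟨L, hL, hNL⟩ := exists_maximal_local (N := normalizer (D : Set G)) ⟨D, hD, hD1, rfl⟩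
  obtain ⟨E₁, hE₁, hlt₁, hEM₁, hEn₁⟩ := hgrow M₁ hD₁ hS₁
  obtain ⟨E₂, hE₂, hlt₂, hEM₂, hEn₂⟩ := hgrow M₂ hD₂ hS₂
  exact h12 ((hbig M₁ L h1 hL E₁ hE₁ hlt₁ hEM₁ (hEn₁.trans hNL)).trans
    (hbig M₂ L h2 hL E₂ hE₂ hlt₂ hEM₂ (hEn₂.trans hNL)).symm)

theorem strongly_embedded (hO : Cfsg.pCore 2 G = ⊥) {M : Subgroup G} (hM : Cfsg.IsMaximalTwoLocal M) :
    Cfsg.IsStronglyEmbedded M := by
  haveI : Fact (Nat.Prime 2) := ⟨Nat.prime_two⟩
  obtain ⟨T, hT, hT1, hMT⟩ := id hM.1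
  refine ⟨fun e => hT1 ?_, ?_, fun g hg => ?_⟩
  · haveI : T.Normal := Subgroup.normalizer_eq_top_iff.1 (hMT ▸ e)
    exact le_bot_iff.1 (hO ▸ Cfsg.Lib.Components.le_pCore hT)
  · have h2 : 2 ∣ Nat.card T := Cfsg.Lib.Embedded.dvd_of_ne_bot hT hT1
    exact even_iff_two_dvd.2 (h2.trans (card_dvd_of_le (hMT ▸ le_normalizer)))
  · rw [← Nat.not_even_iff_odd, even_iff_two_dvd]
    intro h2
    obtain ⟨x, hx⟩ := exists_prime_orderOf_dvd_card' 2 h2
    set w : G := (x : G)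
    have hw : orderOf w = 2 := by rw [← hx]; exact orderOf_coe x
    have hW : IsPGroup 2 (zpowers w) :=
      IsPGroup.of_card (n := 1) (by rw [Nat.card_zpowers, hw, pow_one])
    have hW1 : zpowers w ≠ ⊥ := fun e => by
      rw [zpowers_eq_bot.1 e, orderOf_one] at hw
      omega
    have he : M = cj g M := maximal_unique hloc hM (maximal_cj hM g) hW hW1
      (zpowers_le.2 x.2.1) (zpowers_le.2 x.2.2)
    exact hg (normalizer_maximal hM (mem_normalizer_of_cj he.symm))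

end

end Cfsg.Lib.Stellmacher
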