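import Cfsg.Agent.Stellmacher.Basic
import Cfsg.Agent.Components.Qd.Free
import Cfsg.Agent.Components.LBalance
import Cfsg.Agent.FFModule.Model
import Cfsg.Agent.HallHigman.Drop
import Cfsg.Agent.Blocks.ItoDegrees

/-!
In a solvable group of characteristic 2 without a section `S₄`, an elementary abelian subgroup of a
Sylow 2-subgroup with the square bound, centralising the Thompson subgroup, is normal as soon as it is
normalised by the normalizer of the Thompson subgroup.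
-/

set_option autoImplicit false
set_option linter.unusedSectionVars false
set_option linter.style.haveILetI false

namespace Cfsg.Lib.Stellmacher

open Subgroup
open scoped commutatorElement
open Cfsg.Lib.JComp

universe u

variable {G : Type u} [Group G] [Finite G]

/-- Solvable, of characteristic 2, without a section `S₄`. -/
structure Good (P : Subgroup G) : Prop where
  solv : Group.IsSolvable P
  char2 : P ⊓ centralizer (Cfsg.pCoreOf 2 P : Set G) ≤ Cfsg.pCoreOf 2 P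
  four : ¬ Cfsg.Involves (Equiv.Perm (Fin 4)) P

theorem le_normalizer_core (P : Subgroup G) : P ≤ normalizer (Cfsg.pCoreOf 2 P : Set G) :=
  le_normalizer.trans (normalizer_le_pCoreOf 2 P)

theorem core_le_syl {P S : Subgroup G} (hS : Cfsg.IsSylowTwoIn S P) : Cfsg.pCoreOf 2 P ≤ S :=
  sylowIn_normal_le hS (isPGroup_pCoreOf _) (pCoreOf_le _) (le_normalizer_core P)

theorem Good.sub {P P' S : Subgroup G} (hP : Good P) (hS : Cfsg.IsSylowTwoIn S P) (hSP : S ≤ P') (hP' : P' ≤ P) :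
    Good P' := by
  haveI := hP.solv
  have hQ : Cfsg.pCoreOf 2 P ≤ Cfsg.pCoreOf 2 P' :=
    le_pCoreOf (isPGroup_pCoreOf _) ((core_le_syl hS).trans hSP) (hP'.trans (le_normalizer_core P))
  refine ⟨Group.isSolvable_of_isSolvable_injective (inclusion_injective hP'), fun x hx => hQ (hP.char2 ?_), fun h => hP.four
    (Cfsg.Lib.QdFree.involves_of_injective (inclusion_injective hP') h)⟩
  exact ⟨hP' hx.1, centralizer_le hQ hx.2⟩

theorem relIndex_sup_of_norm {N Q : Subgroup G} (h : Q ≤ normalizer (N : Set G)) :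
    N.relIndex (N ⊔ Q) = N.relIndex Q := by
  haveI : (N.subgroupOf (N ⊔ Q)).Normal :=
    normal_subgroupOf_of_le_normalizer (sup_le le_normalizer h)
  set Y := N ⊔ Q
  haveI := ‹(N.subgroupOf Y).Normal›
  have := Subgroup.relIndex_sup_right (H := Q.subgroupOf Y) (K := N.subgroupOf Y)
  rwa [← subgroupOf_sup le_sup_right le_sup_left, sup_comm, subgroupOf_self, relIndex_top_right,
    relIndex_subgroupOf le_sup_right] at this

theorem eq_of_relIndex {H H' K : Subgroup G} (h : H ≤ H') (hK : H' ≤ K)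
    (hi : H.relIndex K ≤ H'.relIndex K) : H = H' := by
  refine eq_of_le_of_card_ge h ?_
  have h1 := Cfsg.Lib.SmallOffender.relIndex_mul_card' (h.trans hK)
  have h2 := Cfsg.Lib.SmallOffender.relIndex_mul_card' hK
  rw [← h2] at h1
  exact Nat.le_of_mul_le_mul_left (h1.ge.trans (Nat.mul_le_mul_right _ hi)) (relIndex_pos H' K)

theorem relIndex_two {V Y : Subgroup G} {v : G} (hY : Y ≤ V) (h : ∀ x ∈ V, x ∈ Y ∨ v * x ∈ Y) :
    Y.relIndex V ≤ 2 := by
  have hc : Nat.card V ≤ 2 * Nat.card Y := by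
    have hs : ∀ x : V, ∃ p : Fin 2 × Y, (if p.1 = 0 then (p.2 : G) else v⁻¹ * p.2) = x := by
      intro x
      rcases h x x.2 with h0 | h0
      · exact ⟨(0, ⟨x, h0⟩), by simp⟩
      · exact ⟨(1, ⟨_, h0⟩), by simp⟩
    choose f hf using hs
    have h1 := Nat.card_le_card_of_injective f fun x y e => Subtype.ext ((hf x).symm.trans (by rw [e]; exact hf y))
    rwa [Nat.card_prod, Nat.card_fin] at h1
  rw [← Cfsg.Lib.SmallOffender.relIndex_mul_card' hY] at hc
  exact Nat.le_of_mul_le_mul_right hc Nat.card_pos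

theorem elem_finset_sup {ι : Type*} (s : Finset ι) (f : ι → Subgroup G)
    (hc : ∀ i ∈ s, ∀ j ∈ s, f i ≤ centralizer (f j : Set G))
    (he : ∀ i ∈ s, Cfsg.IsElementaryAbelian 2 (f i)) : Cfsg.IsElementaryAbelian 2 (s.sup f : Subgroup G) := by
  have hU : s.sup f ≤ centralizer ((s.sup f : Subgroup G) : Set G) :=
    Finset.sup_le fun i hi => le_centralizer_iff.2 (Finset.sup_le fun j hj => hc j hj i hi)
  let O : Subgroup G :=
    { carrier := {x | x ∈ s.sup f ∧ x * x = 1}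
      one_mem' := ⟨one_mem _, one_mul 1⟩
      mul_mem' := fun {x y} hx hy => ⟨mul_mem hx.1 hy.1, by
        have hxy : x * y = y * x := mem_centralizer_iff.1 (hU hy.1) x hx.1
        calc x * y * (x * y) = x * (y * x) * y := by group
          _ = x * x * (y * y) := by rw [← hxy]; group
          _ = 1 := by rw [hx.2, hy.2, one_mul]⟩
      inv_mem' := fun {x} hx => ⟨inv_mem hx.1, by rw [← mul_inv_rev, hx.2, inv_one]⟩ }
  have h : s.sup f ≤ O := Finset.sup_le fun i hi x hx => ⟨(Finset.le_sup hi : f i ≤ s.sup f) hx, elem_sq (he i hi) hx⟩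
  exact elem_of_sq fun x hx => (h hx).2

theorem eq_bot_of_perfect {X : Type u} [Group X] [Finite X] [Group.IsSolvable X] {H : Subgroup X} (h : ⁅H, H⁆ = H) :
    H = ⊥ :=
  (Subgroup.eq_bot_iff_forall _).2 fun x hx =>
    Cfsg.Lib.Components.map_eq_one_of_perfect_solvable h inferInstance H.subtype ⟨x, hx⟩

theorem exists_inverted_odd {X : Type u} [Group X] [Finite X] [Group.IsSolvable X] {A O : Subgroup X}
    (hA : Cfsg.IsElementaryAbelian 2 A) (hodd : Odd (Nat.card O)) (hn : A ≤ normalizer (O : Set X))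
    (h : ¬ A ≤ centralizer (O : Set X)) :
    ∃ a ∈ A, ∃ r ∈ O, r ≠ 1 ∧ a * r * a⁻¹ = r⁻¹ ∧ ∀ b ∈ A, b * r = r * b ∨ a * b * r = r * (a * b) := by
  classical
  obtain ⟨K, ⟨hKO, hKn, hKc⟩, hmin⟩ := Set.exists_min_image
    {K : Subgroup X | K ≤ O ∧ A ≤ normalizer (K : Set X) ∧ ¬ A ≤ centralizer (K : Set X)}
    (fun K => Nat.card K) (Set.toFinite _) ⟨O, le_rfl, hn, h⟩
  have hKodd : Odd (Nat.card K) := Odd.of_dvd_nat hodd (card_dvd_of_le hKO)
  have hKle : ⁅K, K⁆ ≤ K := commutator_le_self K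
  have hAn : A ≤ normalizer (⁅K, K⁆ : Subgroup X) := fun a ha => mem_normalizer_of_cj (by
    rw [cj, map_commutator, ← cj, cj_eq_self (hKn ha)])
  have hcen : A ≤ centralizer (⁅K, K⁆ : Subgroup X) := by
    by_contra hcon
    have he : ⁅K, K⁆ = K := eq_of_le_of_card_ge hKle (hmin _ ⟨hKle.trans hKO, hAn, hcon⟩)
    apply hKc
    rw [eq_bot_of_perfect he]
    exact fun a _ => mem_centralizer_iff.2 fun x hx => by rw [show x = 1 from mem_bot.1 hx, one_mul, mul_one]
  obtain ⟨a, ha, r, hr, hr0, h1, h2⟩ := exists_inverted hA hKn hAn hKle le_rfl hKodd (by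
    by_contra hcon
    push Not at hcon
    refine hKc fun a ha => mem_centralizer_iff.2 fun k hk => ?_
    have ha2 := elem_sq hA ha
    have hai := elem_inv hA ha
    set c := ⁅k, a⁆ with hc
    have hcK : c ∈ ⁅K, K⁆ := hcon k hk a ha
    have e1 : a * c = c * a := (mem_centralizer_iff.1 (hcen ha) c hcK).symm
    have e2 : c * c = 1 := by
      have : a * c * a = c⁻¹ := by
        rw [hc, commutatorElement_def, hai]
        calc a * (k * a * k⁻¹ * a) * a = a * k * a * k⁻¹ * (a * a) := by group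
          _ = a⁻¹ * k * a⁻¹ * k⁻¹ := by rw [ha2, mul_one, hai]
          _ = _ := by group
      rw [e1, mul_assoc, ha2, mul_one] at this
      exact mul_eq_one_iff_eq_inv.2 this
    have e3 : c = 1 := mem_bot.1 (mem_of_odd_of_pow_mem (N := ⊥)
      (Odd.of_dvd_nat hKodd (Subgroup.orderOf_dvd_natCard K (hKle hcK))) (k := 1)
      (by rw [pow_one, pow_two, e2]; exact one_mem _))
    exact commutatorElement_eq_one_iff_mul_comm.1 e3)
  exact ⟨a, ha, r, hKO hr, fun e => hr0 (e ▸ one_mem _), h1, h2⟩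

/-! ### the quotient by the 2-core -/

/-- The quotient by the 2-core. -/
noncomputable abbrev qmap (P : Subgroup G) [(Cfsg.pCore 2 P).Normal] : P →* P ⧸ Cfsg.pCore 2 P :=
  QuotientGroup.mk' _

instance core_normal (P : Subgroup G) : (Cfsg.pCore 2 P).Normal := Cfsg.Lib.Components.pCore_normal' 2

/-- The image of a subgroup in the quotient by the 2-core. -/
noncomputable def bar (P H : Subgroup G) : Subgroup (P ⧸ Cfsg.pCore 2 P) := (H.subgroupOf P).map (qmap P)

theorem mem_core {P : Subgroup G} {g : P} : g ∈ Cfsg.pCore 2 P ↔ (g : G) ∈ Cfsg.pCoreOf 2 P :=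
  (Subgroup.mem_map_iff_mem P.subtype_injective).symm

theorem qmap_eq_one {P : Subgroup G} {g : P} : qmap P g = 1 ↔ (g : G) ∈ Cfsg.pCoreOf 2 P :=
  (QuotientGroup.eq_one_iff g).trans mem_core

theorem mem_bar {P H : Subgroup G} (hQ : Cfsg.pCoreOf 2 P ≤ H) {g : P} : qmap P g ∈ bar P H ↔ (g : G) ∈ H := by
  constructor
  · rintro ⟨h, hh, e⟩
    have h1 : qmap P (h⁻¹ * g) = 1 := by rw [map_mul, map_inv, e, inv_mul_cancel]
    have h2 := mul_mem (mem_subgroupOf.1 hh) (hQ (qmap_eq_one.1 h1))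
    simpa [← mul_assoc] using h2
  · intro h
    exact mem_map_of_mem _ (mem_subgroupOf.2 h)

theorem bar_elem {P A : Subgroup G} (hA : Cfsg.IsElementaryAbelian 2 A) :
    Cfsg.IsElementaryAbelian 2 (bar P A) := elem_of_sq (by
  rintro _ ⟨a, ha, rfl⟩
  rw [← map_mul, show a * a = 1 from Subtype.ext (elem_sq hA (mem_subgroupOf.1 ha)), map_one])

theorem bar_norm {P A H : Subgroup G} (hn : A ≤ normalizer (H : Set G)) :
    bar P A ≤ normalizer (bar P H : Set (P ⧸ Cfsg.pCore 2 P)) := by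
  refine le_normalizer_of_conj ?_
  rintro _ ⟨a, ha, rfl⟩ _ ⟨h, hh, rfl⟩
  exact ⟨a * h * a⁻¹, mem_subgroupOf.2 (conj_mem (hn (mem_subgroupOf.1 ha)) (mem_subgroupOf.1 hh)), by
    rw [map_mul, map_mul, map_inv]⟩

theorem card_bar {P H : Subgroup G} (hQ : Cfsg.pCoreOf 2 P ≤ H) (hH : H ≤ P) :
    Nat.card (bar P H) = (Cfsg.pCoreOf 2 P).relIndex H := by
  have h := Cfsg.Lib.FF.card_eq_map_mul (qmap P) (H.subgroupOf P)
  rw [QuotientGroup.ker_mk', Nat.card_congr (subgroupOfEquivOfLe hH).toEquiv,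
    ← card_map_of_injective (K := H.subgroupOf P ⊓ Cfsg.pCore 2 P) P.subtype_injective,
    map_inf _ _ _ P.subtype_injective, subgroupOf_map_subtype, inf_eq_left.2 hH,
    show (Cfsg.pCore 2 P).map P.subtype = Cfsg.pCoreOf 2 P from rfl, inf_eq_right.2 hQ,
    ← Cfsg.Lib.SmallOffender.relIndex_mul_card' hQ] at h
  exact (Nat.eq_of_mul_eq_mul_right Nat.card_pos h).symm

theorem lift_inverted {P : Subgroup G} {a : P} (ha : a * a = 1) {r₀ : P ⧸ Cfsg.pCore 2 P}
    (hr : qmap P a * r₀ * (qmap P a)⁻¹ = r₀⁻¹) (ho : Odd (orderOf r₀)) :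
    ∃ r : P, Odd (orderOf (r : G)) ∧ (a : G) * r * (a : G)⁻¹ = (r : G)⁻¹ ∧
      qmap P r ∈ zpowers r₀ ∧ r₀ ∈ zpowers (qmap P r) := by
  obtain ⟨x, rfl⟩ := QuotientGroup.mk'_surjective _ r₀
  have hai : a⁻¹ = a := inv_eq_of_mul_eq_one_right ha
  set r₁ := x * a * x⁻¹ * a with hr₁
  have hinv : a * r₁ * a⁻¹ = r₁⁻¹ := by
    rw [hr₁, hai]
    calc a * (x * a * x⁻¹ * a) * a = a * x * a * x⁻¹ * (a * a) := by group
      _ = a⁻¹ * x * a⁻¹ * x⁻¹ := by rw [ha, mul_one, hai]
      _ = _ := by group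
  have himg : qmap P r₁ = qmap P x ^ 2 := by
    have h1 : (qmap P a * qmap P x * (qmap P a)⁻¹)⁻¹ = qmap P x := by rw [hr, inv_inv]
    have h2 : (qmap P a)⁻¹ = qmap P a := by rw [← map_inv, hai]
    rw [hr₁, map_mul, map_mul, map_mul, map_inv, pow_two]
    rw [mul_inv_rev, mul_inv_rev, inv_inv, h2, ← mul_assoc] at h1
    rw [show qmap P x * qmap P a * (qmap P x)⁻¹ * qmap P a =
      qmap P x * (qmap P a * (qmap P x)⁻¹ * qmap P a) by group, h1]
  obtain ⟨s, hs⟩ := exists_odd_pow r₁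
  have himg' : qmap P (r₁ ^ 2 ^ s) = qmap P x ^ 2 ^ (s + 1) := by rw [map_pow, himg, ← pow_mul, pow_succ']
  refine ⟨r₁ ^ 2 ^ s, by rwa [orderOf_coe], ?_, ?_, ?_⟩
  · have : a * r₁ ^ 2 ^ s * a⁻¹ = (r₁ ^ 2 ^ s)⁻¹ := by rw [← conj_pow, hinv, inv_pow]
    exact congrArg Subtype.val this
  · rw [himg']
    exact npow_mem_zpowers _ _
  · exact mem_of_odd_of_pow_mem ho (k := s + 1) (himg' ▸ mem_zpowers _)

/-- The elements of `A` commuting with `r` modulo the 2-core. -/
noncomputable def comSub (P A : Subgroup G) (r : P) : Subgroup G :=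
  A ⊓ ((centralizer ({qmap P r} : Set (P ⧸ Cfsg.pCore 2 P))).comap (qmap P)).map P.subtype

theorem comm_comSub {P A : Subgroup G} {r : P} {b : G} (hb : b ∈ comSub P A r) :
    ⁅(r : G), b⁆ ∈ Cfsg.pCoreOf 2 P := by
  obtain ⟨b', hb', rfl⟩ := hb.2
  have h : qmap P ⁅r, b'⁆ = 1 := by
    rw [map_commutatorElement]
    exact commutatorElement_eq_one_iff_mul_comm.2 (mem_centralizer_singleton_iff.1 hb').symm
  have h2 := qmap_eq_one.1 h
  rwa [show ((⁅r, b'⁆ : P) : G) = ⁅(r : G), (b' : G)⁆ from map_commutatorElement P.subtype r b'] at h2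

theorem mem_comSub {P A : Subgroup G} {r : P} {b : G} (hb : b ∈ A) (hbP : b ∈ P) {r₀ : P ⧸ Cfsg.pCore 2 P}
    (hr : qmap P r ∈ zpowers r₀) (hc : qmap P ⟨b, hbP⟩ * r₀ = r₀ * qmap P ⟨b, hbP⟩) : b ∈ comSub P A r := by
  refine ⟨hb, ⟨b, hbP⟩, mem_centralizer_singleton_iff.2 ?_, rfl⟩
  obtain ⟨k, hk⟩ := mem_zpowers_iff.1 hr
  rw [← hk]
  exact ((show Commute _ r₀ from hc).zpow_right k).eq

/-- The lift used twice below. -/
theorem lift_pair {P A : Subgroup G} (hA : Cfsg.IsElementaryAbelian 2 A) (hAP : A ≤ P)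
    {a₀ r₀ : P ⧸ Cfsg.pCore 2 P} (ha₀ : a₀ ∈ bar P A) (hr : a₀ * r₀ * a₀⁻¹ = r₀⁻¹) (ho : Odd (orderOf r₀))
    (hd : ∀ b ∈ bar P A, b * r₀ = r₀ * b ∨ a₀ * b * r₀ = r₀ * (a₀ * b)) :
    ∃ (a : G) (r : P) (B : Subgroup G), a ∈ A ∧ Odd (orderOf (r : G)) ∧ a * r * a⁻¹ = (r : G)⁻¹ ∧ B ≤ A ∧
      (∀ x ∈ A, x ∈ B ∨ a * x ∈ B) ∧ (∀ b ∈ B, ⁅(r : G), b⁆ ∈ Cfsg.pCoreOf 2 P) ∧
      qmap P r ∈ zpowers r₀ ∧ r₀ ∈ zpowers (qmap P r) := by
  obtain ⟨a, ha, rfl⟩ := ha₀
  obtain ⟨r, h1, h2, h3, h4⟩ := lift_inverted (Subtype.ext (elem_sq hA (mem_subgroupOf.1 ha))) hr ho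
  refine ⟨a, r, comSub P A r, mem_subgroupOf.1 ha, h1, h2, inf_le_left, fun x hx => ?_,
    fun b hb => comm_comSub hb, h3, h4⟩
  rcases hd (qmap P ⟨x, hAP hx⟩) (mem_map_of_mem _ (mem_subgroupOf.2 hx)) with h | h
  · exact Or.inl (mem_comSub hx (hAP hx) h3 h)
  · exact Or.inr (mem_comSub (mul_mem (mem_subgroupOf.1 ha) hx) (mul_mem a.2 (hAP hx)) h3
      (by rw [← map_mul] at h; exact h))

/-! ### the hypotheses on `V` -/

/-- The standing data. -/
structure Frame (P S V : Subgroup G) : Prop where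
  good : Good P
  syl : Cfsg.IsSylowTwoIn S P
  le : V ≤ S
  norm : S ≤ normalizer (V : Set G)
  elem : Cfsg.IsElementaryAbelian 2 V
  sq : Sq S V

namespace Frame

variable {P S V : Subgroup G}

theorem core_le (F : Frame P S V) : Cfsg.pCoreOf 2 P ≤ S := core_le_syl F.syl

theorem VP (F : Frame P S V) : V ≤ P := F.le.trans F.syl.1

theorem sup_norm (F : Frame P S V) {r : G} (hrP : r ∈ P) {B : Subgroup G} (hBS : B ≤ S)
    (hB : ∀ b ∈ B, ⁅r, b⁆ ∈ Cfsg.pCoreOf 2 P) :
    r ∈ normalizer ((Cfsg.pCoreOf 2 P ⊔ B : Subgroup G) : Set G) := by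
  refine mem_normalizer_of_cj_le ?_
  rw [cj, Subgroup.map_sup, ← cj, ← cj, cj_eq_self (le_normalizer_core P hrP)]
  refine sup_le le_sup_left ?_
  rintro _ ⟨b, hb, rfl⟩
  show r * b * r⁻¹ ∈ _
  rw [show r * b * r⁻¹ = ⁅r, b⁆ * b by rw [commutatorElement_def]; group]
  exact mul_mem (mem_sup_left (hB b hb)) (mem_sup_right hb)

/-- An inverted element lies in the 2-core when the inverting involution lies in `V`. -/
theorem core_of_pair (F : Frame P S V) {v : G} (hv : v ∈ V) {r : G} (hrP : r ∈ P) (ho : Odd (orderOf r))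
    (har : v * r * v⁻¹ = r⁻¹) {B : Subgroup G} (hBV : B ≤ V) (hd : ∀ x ∈ V, x ∈ B ∨ v * x ∈ B)
    (hB : ∀ b ∈ B, ⁅r, b⁆ ∈ Cfsg.pCoreOf 2 P) : r ∈ Cfsg.pCoreOf 2 P := by
  set Q := Cfsg.pCoreOf 2 P with hQ
  set T := Q ⊔ B with hT
  have hTS : T ≤ S := sup_le F.core_le (hBV.trans F.le)
  have hrT : r ∈ normalizer (T : Set G) := F.sup_norm hrP (hBV.trans F.le) hB
  have hvv := elem_sq F.elem hv
  have hvT : v ∈ normalizer (T : Set G) := by
    refine mem_normalizer_of_cj_le ?_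
    rw [cj, Subgroup.map_sup, ← cj, ← cj, cj_eq_self (le_normalizer_core P (F.VP hv))]
    refine sup_le le_sup_left ?_
    rintro _ ⟨b, hb, rfl⟩
    show v * b * v⁻¹ ∈ _
    rw [elem_comm F.elem hv (hBV hb), mul_inv_cancel_right]
    exact mem_sup_right hb
  set Y := V ⊓ T with hY
  set Y' := cj r Y with hY'
  set N₀ := Y ⊓ Y' with hN₀
  have hY'T : Y' ≤ T := (map_mono inf_le_right).trans (cj_eq_self hrT).le
  have hvY : ∀ y ∈ Y, v * y = y * v := fun y hy => elem_comm F.elem hv hy.1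
  have hwY : ∀ z ∈ Y', r * v * r⁻¹ * z = z * (r * v * r⁻¹) := by
    rintro _ ⟨y, hy, rfl⟩
    show r * v * r⁻¹ * (r * y * r⁻¹) = r * y * r⁻¹ * (r * v * r⁻¹)
    calc r * v * r⁻¹ * (r * y * r⁻¹) = r * (v * y) * r⁻¹ := by group
      _ = r * (y * v) * r⁻¹ := by rw [hvY y hy]
      _ = _ := by group
  have hin : Y' ⊓ centralizer (V : Set G) ≤ N₀ := by
    intro z hz
    have hzv : v * z = z * v := mem_centralizer_iff.1 hz.2 v hv
    have hrz := commute_of_inv hvv har ho hzv (hwY z hz.1)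
    have hzY : z ∈ Y := by
      have h := mem_cj.1 hz.1
      rwa [mul_assoc, ← hrz, inv_mul_cancel_left] at h
    exact ⟨hzY, hz.1⟩
  have hfix : ∀ z ∈ N₀, r * z = z * r := fun z hz => commute_of_inv hvv har ho (hvY z hz.1) (hwY z hz.2)
  set k := N₀.relIndex Y' with hk
  have hcard : Nat.card Y' = Nat.card Y := card_cj r Y
  have hkY : N₀.relIndex Y = k := by
    refine Nat.eq_of_mul_eq_mul_right (Nat.card_pos (α := N₀)) ?_
    rw [hk, Cfsg.Lib.SmallOffender.relIndex_mul_card' inf_le_left,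
      Cfsg.Lib.SmallOffender.relIndex_mul_card' inf_le_right, hcard]
  have hsqY : ∀ y ∈ Y', y * y = 1 := by
    rintro _ ⟨y, hy, rfl⟩
    rw [← map_mul, elem_sq F.elem hy.1, map_one]
  have hk2 : k ^ 2 ≤ 2 * k := by
    have h1 := F.sq Y' (hY'T.trans hTS) fun y hy => by rw [hsqY y hy]; exact one_mem _
    have h2 : k ≤ (centralizer (V : Set G)).relIndex Y' := by
      rw [← inf_relIndex_left, inf_comm]
      exact relIndex_le_of_le_left (by rw [inf_comm]; exact hin) index_ne_zero_of_finite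
    have h3 : (centralizer (Y' : Set G)).relIndex V ≤ N₀.relIndex V := by
      refine relIndex_le_of_le_left (fun z hz => mem_centralizer_iff.2 fun y hy => ?_) index_ne_zero_of_finite
      obtain ⟨y₀, hy₀, rfl⟩ := hy
      obtain ⟨z₀, hz₀, rfl⟩ := hz.2
      rw [← map_mul, ← map_mul, elem_comm F.elem hy₀.1 hz₀.1]
    have h4 : N₀.relIndex V ≤ 2 * k := by
      rw [← relIndex_mul_relIndex N₀ Y V inf_le_left inf_le_left, hkY, mul_comm]
      exact Nat.mul_le_mul_right _ (relIndex_two inf_le_left fun x hx =>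
        (hd x hx).imp (fun h => ⟨hx, mem_sup_right h⟩) (fun h => ⟨mul_mem hv hx, mem_sup_right h⟩))
    exact (Nat.pow_le_pow_left h2 2).trans (h1.trans (h3.trans h4))
  have hk3 : k ≤ 2 := by
    rw [pow_two] at hk2
    exact Nat.le_of_mul_le_mul_right hk2 (relIndex_pos _ _)
  set R := Y ⊔ Y' with hR
  have hTY : T ≤ normalizer (Y : Set G) :=
    Cfsg.Lib.Coprime.le_normalizer_inf (hTS.trans F.norm) le_normalizer
  have hR4 : N₀.relIndex R ≤ 4 := by
    rw [← relIndex_mul_relIndex N₀ Y R inf_le_left le_sup_left, relIndex_sup_of_norm (hY'T.trans hTY), hkY,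
      ← inf_relIndex_right Y Y', ← hN₀, ← hk]
    exact Nat.mul_le_mul hk3 hk3
  have hRT : R ≤ T := sup_le inf_le_right hY'T
  let K : Subgroup G :=
    { carrier := {g | g ∈ normalizer (T : Set G) ∧ g ∈ normalizer (R : Set G) ∧ ∀ q ∈ T, ⁅g, q⁆ ∈ R}
      one_mem' := ⟨one_mem _, one_mem _, fun q _ => by rw [commutatorElement_one_left]; exact one_mem _⟩
      mul_mem' := fun {g h} hg hh => ⟨mul_mem hg.1 hh.1, mul_mem hg.2.1 hh.2.1, fun q hq => by
        rw [show ⁅g * h, q⁆ = g * ⁅h, q⁆ * g⁻¹ * ⁅g, q⁆ by simp only [commutatorElement_def]; group]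
        exact mul_mem (conj_mem hg.2.1 (hh.2.2 q hq)) (hg.2.2 q hq)⟩
      inv_mem' := fun {g} hg => ⟨inv_mem hg.1, inv_mem hg.2.1, fun q hq => by
        rw [show ⁅g⁻¹, q⁆ = g⁻¹ * ⁅g, q⁆⁻¹ * g⁻¹⁻¹ by simp only [commutatorElement_def]; group]
        exact conj_mem (inv_mem hg.2.1) (inv_mem (hg.2.2 q hq))⟩ }
  have hinner : ∀ g ∈ normalizer (T : Set G), (∀ q ∈ T, ⁅g, q⁆ ∈ R) → g ∈ K := fun g hg h =>
    ⟨hg, mem_normalizer_of_cj_le (by
      rintro _ ⟨x, hx, rfl⟩
      show g * x * g⁻¹ ∈ R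
      rw [show g * x * g⁻¹ = ⁅g, x⁆ * x by rw [commutatorElement_def]; group]
      exact mul_mem (h x (hRT hx)) hx), h⟩
  have hvcomm : ∀ q ∈ T, ⁅v, q⁆ ∈ Y := fun q hq => ⟨by
    rw [show ⁅v, q⁆ = v * (q * v⁻¹ * q⁻¹) by rw [commutatorElement_def]; group]
    exact mul_mem hv (conj_mem (F.norm (hTS hq)) (inv_mem hv)), by
    rw [show ⁅v, q⁆ = v * q * v⁻¹ * q⁻¹ from commutatorElement_def _ _]
    exact T.mul_mem (conj_mem hvT hq) (T.inv_mem hq)⟩
  have hwK : r * v * r⁻¹ ∈ K := hinner _ (mul_mem (mul_mem hrT hvT) (inv_mem hrT)) fun q hq => by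
    refine mem_sup_right ⟨⁅v, r⁻¹ * q * r⁻¹⁻¹⁆, hvcomm _ (conj_mem (inv_mem hrT) hq), ?_⟩
    show r * ⁅v, r⁻¹ * q * r⁻¹⁻¹⁆ * r⁻¹ = _
    simp only [commutatorElement_def]
    group
  have hrK : r ∈ K := by
    refine mem_of_odd_of_pow_mem ho (k := 1) ?_
    have hvi : v⁻¹ = v := elem_inv F.elem hv
    have e : r * v * r⁻¹ * v = r ^ 2 ^ 1 := by
      rw [pow_one, pow_two]
      calc r * v * r⁻¹ * v = r * (v * r⁻¹ * v⁻¹) := by rw [hvi]; group
        _ = r * (v * r * v⁻¹)⁻¹ := by group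
        _ = r * r := by rw [har, inv_inv]
    rw [← e]
    exact mul_mem hwK (hinner v hvT fun q hq => mem_sup_left (hvcomm q hq))
  have hT2 : IsPGroup 2 T := F.syl.2.1.to_le hTS
  have hr3R := cube_centralizes (hT2.to_le hRT) hrK.2.1 hfix hR4 ho
  have hr3K := pow_mem hrK 3
  have ho3 : Odd (orderOf (r ^ 3)) := Odd.of_dvd_nat ho (orderOf_pow_dvd 3)
  have hr3T : r ^ 3 ∈ centralizer (T : Set G) := mem_centralizer_iff.2 fun q hq => by
    refine (commute_of_stab hT2 ho3 hr3K.1 hq ?_).symm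
    rw [← mem_centralizer_iff.1 hr3R _ (hr3K.2.2 q hq), mul_inv_cancel_right]
  have hr3 : r ^ 3 = 1 := eq_one_of_odd (isPGroup_pCoreOf P)
    (F.good.char2 ⟨pow_mem hrP 3, centralizer_le (le_sup_left : Q ≤ T) hr3T⟩) ho3
  by_contra hrQ
  refine F.good.four (four_in (a := v) (isPGroup_pCoreOf P) (pCoreOf_le P) (F.VP hv) hrP
    (le_normalizer_core P (F.VP hv)) (le_normalizer_core P hrP) (by rw [hvv]; exact one_mem _)
    (by rw [har, inv_mul_cancel]; exact one_mem _) (by rw [hr3]; exact one_mem _)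
    fun h => hrQ (F.good.char2 ⟨hrP, h⟩))

theorem le_core (F : Frame P S V) : V ≤ Cfsg.pCoreOf 2 P := by
  classical
  haveI : Fact (Nat.Prime 2) := ⟨Nat.prime_two⟩
  haveI := F.good.solv
  by_contra hcon
  set O := Cfsg.pPrimeCore 2 (P ⧸ Cfsg.pCore 2 P) with hO
  haveI : O.Normal := Cfsg.Lib.Components.pPrimeCore_normal' 2
  have hOodd : Odd (Nat.card O) := Nat.coprime_two_right.1 (Cfsg.Lib.Components.coprime_card_pPrimeCore 2)
  have hnc : ¬ bar P V ≤ centralizer (O : Set (P ⧸ Cfsg.pCore 2 P)) := by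
    intro h
    refine hcon fun v hv => ?_
    have hvO := Cfsg.Lib.FF.centralizer_pPrimeCore_le 2 (Cfsg.Lib.Blocks.isPSolvable_of_solvable inferInstance)
      Cfsg.Lib.HallHigman.pCore_quotient_pCore (h (mem_map_of_mem _ (mem_subgroupOf.2 hv :
        (⟨v, F.VP hv⟩ : P) ∈ V.subgroupOf P)))
    exact qmap_eq_one.1 (eq_one_of_odd (elem_isPGroup (bar_elem F.elem))
      (mem_map_of_mem (qmap P) (mem_subgroupOf.2 hv : (⟨v, F.VP hv⟩ : P) ∈ V.subgroupOf P))
      (Odd.of_dvd_nat hOodd (Subgroup.orderOf_dvd_natCard O hvO)))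
  obtain ⟨a₀, ha₀, r₀, hr₀, hne, h1, h2⟩ := exists_inverted_odd (bar_elem F.elem) hOodd
    (((Subgroup.normalizer_eq_top_iff (H := O)).2 inferInstance).symm ▸ le_top) hnc
  obtain ⟨a, r, B, ha, ho, har, hBV, hd, hB, -, hr'⟩ := lift_pair F.elem F.VP ha₀ h1
    (Odd.of_dvd_nat hOodd (Subgroup.orderOf_dvd_natCard O hr₀)) h2
  rw [qmap_eq_one.2 (F.core_of_pair ha r.2 ho har hBV hd hB), zpowers_one_eq_bot, mem_bot] at hr'
  exact hne hr'

theorem conj_commute (F : Frame P S V) {g : G} (hg : g ∈ P) : V ≤ centralizer (cj g V : Set G) := by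
  set Q := Cfsg.pCoreOf 2 P
  have hUQ : cj g V ≤ Q := (map_mono F.le_core).trans (cj_eq_self (le_normalizer_core P hg)).le
  have hQS : Q ≤ cj g S := (cj_eq_self (le_normalizer_core P hg)).ge.trans (map_mono F.core_le)
  have h1 := F.sq (cj g V) (hUQ.trans F.core_le) fun y hy => by
    rw [elem_sq (elem_cj F.elem g) hy]; exact one_mem _
  have h2 := F.sq.conj g V (F.le_core.trans hQS) fun y hy => by
    rw [elem_sq F.elem hy]; exact one_mem _
  set a := (centralizer (cj g V : Set G)).relIndex V with ha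
  set b := (centralizer (V : Set G)).relIndex (cj g V)
  have h3 : a ^ 4 ≤ a ^ 1 := by
    calc a ^ 4 = (a ^ 2) ^ 2 := by rw [← pow_mul]
      _ ≤ b ^ 2 := Nat.pow_le_pow_left h2 2
      _ ≤ a ^ 1 := by rw [pow_one]; exact h1
  refine relIndex_eq_one.1 (le_antisymm (not_lt.1 fun hlt => ?_) (relIndex_pos _ _))
  have := (Nat.pow_le_pow_iff_right hlt).1 h3
  omega

/-- An inverted element for an offender normalises `V`. -/
theorem fix_pair (F : Frame P S V) {A : Subgroup G} (hA : MaxE S A) (hVA : V ≤ centralizer (A : Set G))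
    {a : G} (ha : a ∈ A) {r : G} (hrP : r ∈ P) (ho : Odd (orderOf r)) (har : a * r * a⁻¹ = r⁻¹)
    {B : Subgroup G} (hBA : B ≤ A) (hd : ∀ x ∈ A, x ∈ B ∨ a * x ∈ B)
    (hB : ∀ b ∈ B, ⁅r, b⁆ ∈ Cfsg.pCoreOf 2 P) : r ∈ normalizer (V : Set G) := by
  classical
  by_contra hrV
  set Q := Cfsg.pCoreOf 2 P with hQ
  set T := Q ⊔ B with hT
  have hTS : T ≤ S := sup_le F.core_le (hBA.trans hA.1)
  have hrT : r ∈ normalizer (T : Set G) := F.sup_norm hrP (hBA.trans hA.1) hB
  have haP : a ∈ P := F.syl.1 (hA.1 ha)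
  have haa := elem_sq hA.2.1 ha
  have hgT : ∀ g ∈ zpowers r, g ∈ normalizer (T : Set G) := fun g hg => zpowers_le.2 hrT hg
  have hgP : ∀ g ∈ zpowers r, g ∈ P := fun g hg => zpowers_le.2 hrP hg
  set n := orderOf r with hn
  set U : Subgroup G := (Finset.range n).sup fun i => cj (r ^ i) V with hU
  have hgen : ∀ g ∈ zpowers r, cj g V ≤ U := by
    intro g hg
    obtain ⟨i, hi, rfl⟩ := Finset.mem_image.1 (mem_zpowers_iff_mem_range_orderOf.1 hg)
    exact Finset.le_sup (f := fun i => cj (r ^ i) V) hi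
  have hcjU : ∀ g : G, (∀ i : ℕ, cj g (cj (r ^ i) V) ≤ U) → g ∈ normalizer (U : Set G) := fun g h =>
    mem_normalizer_of_cj_le (map_le_iff_le_comap.2 (Finset.sup_le fun i _ => map_le_iff_le_comap.1 (h i)))
  have hrU : r ∈ normalizer (U : Set G) := hcjU r fun i => by
    rw [cj_cj]; exact hgen _ (mul_mem (mem_zpowers r) (npow_mem_zpowers r i))
  have haV : cj a V = V := cj_eq_self (F.norm (hA.1 ha))
  have haU : a ∈ normalizer (U : Set G) := hcjU a fun i => by
    have e : a * r ^ i = (r ^ i)⁻¹ * a := by rw [← inv_pow, ← har, conj_pow, inv_mul_cancel_right]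
    rw [cj_cj, e, ← cj_cj, haV]
    exact hgen _ (inv_mem (npow_mem_zpowers r i))
  have hTg : ∀ g ∈ zpowers r, ∀ q ∈ T, cj q (cj g V) = cj g V := fun g hg q hq => by
    have h1 : g⁻¹ * q * g⁻¹⁻¹ ∈ T := conj_mem (inv_mem (hgT g hg)) hq
    rw [cj_cj, show q * g = g * (g⁻¹ * q * g⁻¹⁻¹) by group, ← cj_cj, cj_eq_self (F.norm (hTS h1))]
  have hTU : T ≤ normalizer (U : Set G) := fun q hq => hcjU q fun i => by
    rw [hTg _ (npow_mem_zpowers r i) q hq]; exact hgen _ (npow_mem_zpowers r i)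
  have hAU : A ≤ normalizer (U : Set G) := fun x hx => by
    rcases hd x hx with h | h
    · exact hTU (mem_sup_right h)
    · have := mul_mem (inv_mem haU) (hTU (mem_sup_right h))
      rwa [inv_mul_cancel_left] at this
  have hUQ : U ≤ Q := Finset.sup_le fun i _ =>
    (map_mono F.le_core).trans (cj_eq_self (le_normalizer_core P (pow_mem hrP i))).le
  have hUS : U ≤ S := hUQ.trans F.core_le
  have hUe : Cfsg.IsElementaryAbelian 2 U := elem_finset_sup _ _ (fun i _ j _ => by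
    have h := map_mono (f := (MulAut.conj (r ^ i)).toMonoidHom)
      (F.conj_commute (mul_mem (inv_mem (pow_mem hrP i)) (pow_mem hrP j)))
    rw [← cj, ← cj, cj_centralizer, cj_cj, mul_inv_cancel_left] at h
    exact h) fun i _ => elem_cj F.elem _
  have hUsq : Sq T U := sq_finset_sup _ _ fun i _ => (F.sq.conj (r ^ i)).mono (by
    rw [← cj_eq_self (hgT _ (npow_mem_zpowers r i))]; exact map_mono hTS)
  -- the offender bound
  set n' := (centralizer (A : Set G)).relIndex U with hn'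
  set k := (centralizer (U : Set G)).relIndex B with hk
  set m := (centralizer (B : Set G)).relIndex U with hm
  have hnk : n' ≤ (centralizer (U : Set G)).relIndex A := by
    set C := A ⊓ centralizer (U : Set G) with hC
    have hUC : U ≤ normalizer (C : Set G) := fun u hu => centralizer_le_normalizer _
      (mem_centralizer_iff.2 fun c hc => (mem_centralizer_iff.1 (mem_inf.1 hc).2 u hu).symm)
    set E := C ⊔ U with hE
    have hEe : Cfsg.IsElementaryAbelian 2 E := by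
      have h := elem_finset_sup (Finset.univ : Finset Bool) (fun c => if c then C else U) ?_ ?_
      · rwa [Fintype.univ_bool, Finset.sup_insert, Finset.sup_singleton] at h
      · rintro (_ | _) - (_ | _) -
        · exact fun x hx => mem_centralizer_iff.2 fun y hy => elem_comm hUe hy hx
        · exact le_centralizer_iff.1 inf_le_right
        · exact inf_le_right
        · exact fun x hx => mem_centralizer_iff.2 fun y hy => elem_comm hA.2.1 (mem_inf.1 hy).1 (mem_inf.1 hx).1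
      · rintro (_ | _) -
        · exact hUe
        · exact elem_of_sq fun x hx => elem_sq hA.2.1 (mem_inf.1 hx).1
    have hle : Nat.card E ≤ Nat.card A := hA.2.2 E (sup_le (inf_le_left.trans hA.1) hUS) hEe
    rw [← Cfsg.Lib.SmallOffender.relIndex_mul_card' (le_sup_left : C ≤ E),
      ← Cfsg.Lib.SmallOffender.relIndex_mul_card' (inf_le_left : C ≤ A), relIndex_sup_of_norm hUC,
      inf_relIndex_left] at hle
    refine le_trans ?_ (Nat.le_of_mul_le_mul_right hle Nat.card_pos)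
    exact relIndex_le_of_le_left (inf_le_left.trans fun x hx =>
      mem_centralizer_iff.2 fun y hy => elem_comm hA.2.1 hy hx) index_ne_zero_of_finite
  have hBi : B.relIndex A ≤ 2 := relIndex_two hBA hd
  have hn2k : n' ≤ 2 * k := by
    refine hnk.trans ((relIndex_le_of_le_left (inf_le_left : centralizer (U : Set G) ⊓ B ≤ _)
      index_ne_zero_of_finite).trans ?_)
    rw [← relIndex_mul_relIndex _ B A inf_le_right hBA, inf_relIndex_right, mul_comm, ← hk]
    exact Nat.mul_le_mul_right _ hBi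
  have hmn : m ≤ n' := relIndex_le_of_le_left (centralizer_le hBA) index_ne_zero_of_finite
  have hkm : k ^ 2 ≤ m := hUsq B le_sup_right fun y hy => by
    rw [elem_sq hA.2.1 (hBA hy)]; exact one_mem _
  have hk3 : k ≤ 2 := by
    have h := hkm.trans (hmn.trans hn2k)
    rw [pow_two] at h
    exact Nat.le_of_mul_le_mul_right h (relIndex_pos _ _)
  -- the fixed points
  set Ca := U ⊓ centralizer (A : Set G) with hCa
  set C₀ := Ca ⊓ cj r Ca with hC₀
  have hr0 : ∀ z ∈ C₀, r * z = z * r := by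
    intro z hz
    obtain ⟨y, hy, rfl⟩ := hz.2
    refine commute_of_inv haa har ho (mem_centralizer_iff.1 hz.1.2 a ha) ?_
    show r * a * r⁻¹ * (r * y * r⁻¹) = r * y * r⁻¹ * (r * a * r⁻¹)
    calc r * a * r⁻¹ * (r * y * r⁻¹) = r * (a * y) * r⁻¹ := by group
      _ = r * (y * a) * r⁻¹ := by rw [mem_centralizer_iff.1 hy.2 a ha]
      _ = _ := by group
  have hVU : V ≤ U := by rw [← cj_one V]; exact hgen 1 (one_mem _)
  have hVCa : V ≤ Ca := le_inf hVU hVA
  have hrC : r ∉ centralizer (U : Set G) := fun h =>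
    hrV (centralizer_le_normalizer _ (centralizer_le hVU h))
  have hU2 : IsPGroup 2 U := elem_isPGroup hUe
  have fin : r ^ 3 ∈ centralizer (U : Set G) → False := fun h =>
    F.good.four (four_in hU2 (hUS.trans F.syl.1) haP hrP haU hrU (by rw [haa]; exact one_mem _)
      (by rw [har, inv_mul_cancel]; exact one_mem _) h hrC)
  have hCaU : Ca.relIndex U = n' := inf_relIndex_left _ _
  have hcjUU : cj r U = U := cj_eq_self hrU
  have h0Ca : C₀.relIndex Ca ≤ n' := by
    rw [hC₀, inf_relIndex_left, ← hCaU, ← relIndex_cj r Ca U, hcjUU]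
    exact relIndex_le_of_le_right inf_le_left index_ne_zero_of_finite
  by_cases hsmall : n' ≤ 2
  · refine fin (cube_centralizes hU2 hrU hr0 ?_ ho)
    rw [← relIndex_mul_relIndex C₀ Ca U inf_le_left inf_le_left, hCaU]
    exact (Nat.mul_le_mul (h0Ca.trans hsmall) hsmall)
  have hk2 : k = 2 := by omega
  rw [hk2] at hkm hn2k
  have hn4 : n' = 4 := by omega
  have hCaB : Ca = U ⊓ centralizer (B : Set G) := by
    refine eq_of_relIndex (inf_le_inf_left _ (centralizer_le hBA)) inf_le_left ?_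
    rw [inf_relIndex_left, inf_relIndex_left, ← hn', ← hm]
    omega
  set N : Subgroup G := (Finset.range n).sup fun i => cj (r ^ i) B with hN
  have hgenN : ∀ g ∈ zpowers r, cj g B ≤ N := by
    intro g hg
    obtain ⟨i, hi, rfl⟩ := Finset.mem_image.1 (mem_zpowers_iff_mem_range_orderOf.1 hg)
    exact Finset.le_sup (f := fun i => cj (r ^ i) B) hi
  have hrN : r ∈ normalizer (N : Set G) :=
    mem_normalizer_of_cj_le (map_le_iff_le_comap.2 (Finset.sup_le fun i _ => map_le_iff_le_comap.1 (by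
      rw [← cj, cj_cj]; exact hgenN _ (mul_mem (mem_zpowers r) (npow_mem_zpowers r i)))))
  have hBC0 : ∀ i : ℕ, cj (r ^ i) B ≤ centralizer (C₀ : Set G) := by
    rintro i _ ⟨b, hb, rfl⟩
    refine mem_centralizer_iff.2 fun z hz => ?_
    have hzb : Commute z b := (mem_centralizer_iff.1 (mem_inf.1 (mem_inf.1 hz).1).2 b (hBA hb)).symm
    have hzr : Commute z (r ^ i) := ((show Commute r z from hr0 z hz).pow_left i).symm
    exact ((hzr.mul_right hzb).mul_right hzr.inv_right).eq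
  have hNC0 : N ≤ centralizer (C₀ : Set G) := Finset.sup_le fun i _ => hBC0 i
  have hNT : N ≤ T := Finset.sup_le fun i _ =>
    (map_mono le_sup_right).trans (cj_eq_self (hgT _ (npow_mem_zpowers r i))).le
  have hNS : N ≤ S := hNT.trans hTS
  have hC0V4 : C₀.relIndex V ≤ 4 :=
    (relIndex_le_of_le_right hVCa index_ne_zero_of_finite).trans (h0Ca.trans hn4.le)
  let T₀ : Subgroup G :=
    { carrier := {g | g ∈ normalizer (V : Set G) ∧ g ∈ centralizer (C₀ : Set G) ∧ ∀ v ∈ V, ⁅g, v⁆ ∈ C₀}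
      one_mem' := ⟨one_mem _, one_mem _, fun v _ => by rw [commutatorElement_one_left]; exact one_mem _⟩
      mul_mem' := fun {g h} hg hh => ⟨mul_mem hg.1 hh.1, mul_mem hg.2.1 hh.2.1, fun v hv => by
        rw [show ⁅g * h, v⁆ = g * ⁅h, v⁆ * g⁻¹ * ⁅g, v⁆ by simp only [commutatorElement_def]; group,
          ← mem_centralizer_iff.1 hg.2.1 _ (hh.2.2 v hv), mul_inv_cancel_right]
        exact mul_mem (hh.2.2 v hv) (hg.2.2 v hv)⟩
      inv_mem' := fun {g} hg => ⟨inv_mem hg.1, inv_mem hg.2.1, fun v hv => by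
        rw [show ⁅g⁻¹, v⁆ = g⁻¹ * ⁅g, v⁆⁻¹ * g⁻¹⁻¹ by simp only [commutatorElement_def]; group,
          ← mem_centralizer_iff.1 (inv_mem hg.2.1) _ (inv_mem (hg.2.2 v hv)), mul_inv_cancel_right]
        exact inv_mem (hg.2.2 v hv)⟩ }
  have hstep : ∀ y ∈ N, y * y = 1 → y ∈ centralizer (V : Set G) ∨
      (y ∈ T₀ ∧ 4 ≤ C₀.relIndex V) := by
    intro y hy hy2
    by_cases hyV : y ∈ centralizer (V : Set G)
    · exact Or.inl hyV
    right
    have hyz : ∀ w ∈ zpowers y, w * w ∈ centralizer (V : Set G) := fun w hw => by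
      obtain ⟨j, rfl⟩ := mem_zpowers_iff.1 hw
      rw [← (Commute.refl y).mul_zpow, hy2, one_zpow]
      exact one_mem _
    have h2 : 2 ≤ (centralizer (V : Set G)).relIndex (zpowers y) := by
      refine Nat.lt_of_le_of_ne (relIndex_pos _ _ : 1 ≤ _) fun e => hyV ?_
      exact relIndex_eq_one.1 e.symm (mem_zpowers y)
    have h1 : 4 ≤ (centralizer (zpowers y : Set G)).relIndex V :=
      (Nat.pow_le_pow_left h2 2).trans (F.sq _ (zpowers_le.2 (hNS hy)) hyz)
    have hle : V ⊓ C₀ ≤ V ⊓ centralizer (zpowers y : Set G) := by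
      refine inf_le_inf_left _ fun z hz => ?_
      refine mem_centralizer_iff.2 fun w hw => ?_
      exact (mem_centralizer_iff.1 (zpowers_le.2 (hNC0 hy) hw) z hz).symm
    have he : V ⊓ C₀ = V ⊓ centralizer (zpowers y : Set G) := by
      refine eq_of_relIndex hle inf_le_left ?_
      rw [inf_relIndex_left, inf_relIndex_left]
      exact hC0V4.trans h1
    refine ⟨⟨F.norm (hNS hy), hNC0 hy, fun v hv => ?_⟩, ?_⟩
    · have hyv : y * v * y⁻¹ ∈ V := conj_mem (F.norm (hNS hy)) hv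
      have hc : ⁅y, v⁆ ∈ V := mul_mem hyv (inv_mem hv)
      have hyi : y⁻¹ = y := inv_eq_of_mul_eq_one_right hy2
      have hfixc : y * ⁅y, v⁆ = ⁅y, v⁆ * y := by
        refine mul_inv_eq_iff_eq_mul.1 (Eq.trans ?_ (elem_inv F.elem hc))
        calc y * ⁅y, v⁆ * y⁻¹ = (y * y) * v * y⁻¹ * v⁻¹ * y⁻¹ := by
              simp only [commutatorElement_def]; group
          _ = v * y * v⁻¹ * y⁻¹ := by rw [hy2, one_mul, hyi]
          _ = _ := by simp only [commutatorElement_def]; group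
      have hmem : ⁅y, v⁆ ∈ V ⊓ centralizer (zpowers y : Set G) := ⟨hc, mem_centralizer_iff.2 fun w hw => by
        obtain ⟨j, rfl⟩ := mem_zpowers_iff.1 hw
        exact ((show Commute y _ from hfixc).zpow_left j).eq⟩
      rw [← he] at hmem
      exact hmem.2
    · rw [← inf_relIndex_left V C₀, he, inf_relIndex_left]
      exact h1
  have hyB : ∀ i : ℕ, ∀ y ∈ cj (r ^ i) B, y ∈ N ∧ y * y = 1 := fun i y hy => by
    refine ⟨hgenN _ (npow_mem_zpowers r i) hy, ?_⟩
    obtain ⟨b, hb, rfl⟩ := hy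
    rw [← map_mul, elem_sq hA.2.1 (hBA hb), map_one]
  have hNT0 : N ≤ T₀ := Finset.sup_le fun i _ y hy => by
    obtain ⟨hyN, hy2⟩ := hyB i y hy
    rcases hstep y hyN hy2 with h | h
    · exact ⟨F.norm (hNS hyN), hNC0 hyN, fun v hv => by
        rw [commutatorElement_eq_one_iff_mul_comm.2 (mem_centralizer_iff.1 h v hv).symm]; exact one_mem _⟩
    · exact h.1
  have hN2 : (centralizer (V : Set G)).relIndex N ≤ 2 := by
    have h := F.sq N hNS fun y hy => mem_centralizer_iff.2 fun v hv => by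
      obtain ⟨h1, h2, h3⟩ := hNT0 hy
      have hc := h3 v hv
      have hcV : ⁅y, v⁆ ∈ V := mul_mem (conj_mem h1 hv) (inv_mem hv)
      refine (mul_inv_eq_iff_eq_mul.1 ?_).symm
      calc y * y * v * (y * y)⁻¹ = y * (⁅y, v⁆ * v) * y⁻¹ := by rw [commutatorElement_def]; group
        _ = (y * ⁅y, v⁆ * y⁻¹) * (⁅y, v⁆ * v) := by rw [commutatorElement_def]; group
        _ = ⁅y, v⁆ * (⁅y, v⁆ * v) := by rw [← mem_centralizer_iff.1 h2 _ hc, mul_inv_cancel_right]
        _ = v := by rw [← mul_assoc, elem_sq F.elem hcV, one_mul]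
    have h4 : (centralizer (N : Set G)).relIndex V ≤ 4 :=
      (relIndex_le_of_le_left (le_centralizer_iff.1 hNC0) index_ne_zero_of_finite).trans hC0V4
    by_contra hlt
    have := (Nat.pow_le_pow_left (not_le.1 hlt) 2).trans (h.trans h4)
    norm_num at this
  have h4le : 4 ≤ C₀.relIndex V := by
    by_contra hcon
    have hall : ∀ i : ℕ, cj (r ^ i) B ≤ centralizer (V : Set G) := fun i y hy =>
      (hstep y (hyB i y hy).1 (hyB i y hy).2).resolve_right fun h => hcon h.2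
    have hNV : N ≤ centralizer (V : Set G) := Finset.sup_le fun i _ => hall i
    have hBU : B ≤ centralizer (U : Set G) := le_centralizer_iff.2 (Finset.sup_le fun i _ => by
      have h := map_mono (f := (MulAut.conj (r ^ i)).toMonoidHom)
        (le_centralizer_iff.1 ((hgenN _ (inv_mem (npow_mem_zpowers r i))).trans hNV))
      rwa [← cj, ← cj, cj_centralizer, cj_cj_inv] at h)
    rw [← relIndex_eq_one, ← hk] at hBU
    omega
  have hCaeq : V ⊔ C₀ = Ca := by
    refine eq_of_le_of_card_ge (sup_le hVCa inf_le_left) ?_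
    have hVn : V ≤ normalizer (C₀ : Set G) := fun v hv => centralizer_le_normalizer _
      (mem_centralizer_iff.2 fun z hz => elem_comm hUe (mem_inf.1 (mem_inf.1 hz).1).1 (hVU hv))
    rw [sup_comm, ← Cfsg.Lib.SmallOffender.relIndex_mul_card' (le_sup_left : C₀ ≤ C₀ ⊔ V),
      relIndex_sup_of_norm hVn, ← Cfsg.Lib.SmallOffender.relIndex_mul_card' (inf_le_left : C₀ ≤ Ca)]
    exact Nat.mul_le_mul_right _ ((h0Ca.trans hn4.le).trans h4le)
  have hUeq : Ca ⊔ cj r Ca = U := by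
    have hle : cj r Ca ≤ U := (map_mono inf_le_left).trans hcjUU.le
    have hnorm : cj r Ca ≤ normalizer (Ca : Set G) := fun x hx => centralizer_le_normalizer _
      (mem_centralizer_iff.2 fun z hz => elem_comm hUe (mem_inf.1 hz).1 (hle hx))
    refine eq_of_le_of_card_ge (sup_le inf_le_left hle) ?_
    rw [← Cfsg.Lib.SmallOffender.relIndex_mul_card' (le_sup_left : Ca ≤ Ca ⊔ cj r Ca),
      relIndex_sup_of_norm hnorm, ← Cfsg.Lib.SmallOffender.relIndex_mul_card' (inf_le_left : Ca ≤ U), hCaU,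
      ← inf_relIndex_right, ← hC₀]
    refine Nat.mul_le_mul_right _ ?_
    refine Nat.le_of_mul_le_mul_right (c := Nat.card C₀) ?_ Nat.card_pos
    rw [Cfsg.Lib.SmallOffender.relIndex_mul_card' (inf_le_right : C₀ ≤ cj r Ca), card_cj,
      ← Cfsg.Lib.SmallOffender.relIndex_mul_card' (inf_le_left : C₀ ≤ Ca)]
    refine Nat.mul_le_mul_right _ (hn4.le.trans (h4le.trans ?_))
    exact relIndex_le_of_le_right hVCa index_ne_zero_of_finite
  have hNCa : (centralizer (Ca : Set G)).relIndex N ≤ 2 := by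
    rw [← hCaeq, centralizer_sup]
    refine le_trans (le_of_eq ?_) hN2
    rw [← inf_relIndex_right, inf_assoc, inf_eq_right.2 hNC0, inf_relIndex_right]
  have hNU : (centralizer (U : Set G)).relIndex N ≤ 4 := by
    rw [← hUeq, centralizer_sup]
    refine relIndex_inf_le.trans ((Nat.mul_le_mul hNCa ?_).trans (by norm_num : 2 * 2 ≤ 4))
    rw [← cj_eq_self hrN, ← cj_centralizer, relIndex_cj]
    exact hNCa
  have hr3U := pow_mem hrU 3
  have hr3Ca : r ^ 3 ∈ normalizer (Ca : Set G) := by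
    refine mem_normalizer_of_cj_le ?_
    rintro _ ⟨z, hz, rfl⟩
    show r ^ 3 * z * (r ^ 3)⁻¹ ∈ Ca
    rw [hCaB] at hz ⊢
    refine ⟨conj_mem hr3U hz.1, mem_centralizer_iff.2 fun b hb => ?_⟩
    set z' := r ^ 3 * z * (r ^ 3)⁻¹ with hz'
    set b' := r ^ 3 * b * (r ^ 3)⁻¹ with hb'
    have hbN : b ∈ N := hgenN 1 (one_mem _) (by rw [cj_one]; exact hb)
    have hc : b⁻¹ * b' ∈ centralizer (U : Set G) :=
      cube_conj hrN (Cfsg.Lib.Thompson.normalizer_le_normalizer_centralizer U hrU) hNU ho hbN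
    have h1 : Commute b' z' := by
      show b' * z' = z' * b'
      rw [hb', hz']
      calc r ^ 3 * b * (r ^ 3)⁻¹ * (r ^ 3 * z * (r ^ 3)⁻¹) = r ^ 3 * (b * z) * (r ^ 3)⁻¹ := by group
        _ = r ^ 3 * (z * b) * (r ^ 3)⁻¹ := by rw [mem_centralizer_iff.1 hz.2 b hb]
        _ = _ := by group
    have h2 : Commute (b⁻¹ * b') z' := (mem_centralizer_iff.1 hc z' (conj_mem hr3U hz.1)).symm
    have h3 := h1.mul_left h2.inv_left
    rw [mul_inv_rev, inv_inv, mul_inv_cancel_left] at h3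
    exact h3.eq
  have hr6 : r ^ 3 ∈ centralizer (Ca : Set G) := by
    refine mem_of_odd_of_pow_mem (Odd.of_dvd_nat ho (orderOf_pow_dvd 3)) (k := 1) ?_
    have haC : a ∈ centralizer (Ca : Set G) :=
      mem_centralizer_iff.2 fun z hz => (mem_centralizer_iff.1 (mem_inf.1 hz).2 a ha).symm
    have hcon := conj_mem (Cfsg.Lib.Thompson.normalizer_le_normalizer_centralizer Ca hr3Ca) haC
    have e : r ^ 3 * a * (r ^ 3)⁻¹ * a = (r ^ 3) ^ 2 ^ 1 := by
      have hai : a⁻¹ = a := elem_inv hA.2.1 ha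
      rw [pow_one, pow_two, ← inv_pow]
      rw [← har]
      rw [conj_pow, hai]
      calc r ^ 3 * a * (a * r ^ 3 * a) * a = r ^ 3 * (a * a) * r ^ 3 * (a * a) := by group
        _ = _ := by rw [haa, mul_one, mul_one]
    rw [← e]
    exact mul_mem hcon haC
  refine fin ?_
  rw [← hUeq, centralizer_sup]
  refine mem_inf.2 ⟨hr6, ?_⟩
  rw [← cj_centralizer, mem_cj, show r⁻¹ * r ^ 3 * r = r ^ 3 by group]
  exact hr6

end Frame

/-- `V` is normal. -/
theorem normal_of_thompson {P S V : Subgroup G} (F : Frame P S V) (hVJ : V ≤ centralizer (Jof S : Set G))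
    (hN : P ⊓ normalizer (Jof S : Set G) ≤ normalizer (V : Set G)) : P ≤ normalizer (V : Set G) := by
  classical
  induction hc : Nat.card P using Nat.strong_induction_on generalizing P with
  | _ c ih =>
  subst hc
  haveI := F.good.solv
  have hind : ∀ R : Subgroup G, S ≤ R → R ≤ P → R ≠ P → R ≤ normalizer (V : Set G) := by
    intro R h1 h2 h3
    refine ih (Nat.card R) (lt_of_le_of_ne (card_le_of_le h2) fun e => h3 (eq_of_le_of_card_ge h2 e.ge))
      ⟨F.good.sub F.syl h1 h2, ⟨h1, F.syl.2.1, Odd.of_dvd_nat F.syl.2.2 (Dvd.intro _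
        (relIndex_mul_relIndex S R P h1 h2))⟩, F.le, F.norm, F.elem, F.sq⟩
      ((inf_le_inf_right _ h2).trans hN) rfl
  by_contra hcon
  set Q := Cfsg.pCoreOf 2 P with hQ
  have hQS := F.core_le
  set M := P ⊓ normalizer (V : Set G) with hM
  have hSM : S ≤ M := le_inf F.syl.1 F.norm
  have hsmall : ∀ L : Subgroup G, Q ≤ L → L ≤ M → P ≤ normalizer (L : Set G) → S ⊓ L = Q := by
    intro L hQL hLM hLn
    have hLP : L ≤ P := hLM.trans inf_le_left
    have hR := sylowIn_inf F.syl hLP hLn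
    refine le_antisymm ?_ (le_inf hQS hQL)
    by_cases hall : P ⊓ normalizer ((S ⊓ L : Subgroup G) : Set G) = P
    · exact le_pCoreOf hR.2.1 (inf_le_left.trans F.syl.1) (hall.ge.trans inf_le_right)
    exfalso
    apply hcon
    have hsub := hind _ (le_inf F.syl.1 (Cfsg.Lib.Coprime.le_normalizer_inf le_normalizer
      (F.syl.1.trans hLn))) inf_le_left hall
    intro l hl
    have h2 : cj l (S ⊓ L) ≤ L := (map_mono inf_le_right).trans (cj_eq_self (hLn hl)).le
    obtain ⟨g, hg, hle⟩ := exists_conj_le hR h2 (hR.2.1.map _)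
    have he : cj l (S ⊓ L) = cj g (S ⊓ L) := eq_of_le_of_card_ge hle (by rw [card_cj, card_cj])
    have hn : g⁻¹ * l ∈ normalizer ((S ⊓ L : Subgroup G) : Set G) :=
      mem_normalizer_of_cj (by rw [← cj_cj, he, cj_inv_cj])
    have h := mul_mem (hLM hg).2 (hsub (mem_inf.2 ⟨mul_mem (inv_mem (hLP hg)) hl, hn⟩))
    rwa [mul_inv_cancel_left] at h
  obtain ⟨K, ⟨hQK, hKP, hKn, hKM⟩, hmin⟩ := Set.exists_min_image
    {K : Subgroup G | Q ≤ K ∧ K ≤ P ∧ P ≤ normalizer (K : Set G) ∧ ¬ K ≤ M} (fun K => Nat.card K)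
    (Set.toFinite _) ⟨P, pCoreOf_le P, le_rfl, le_normalizer, fun h => hcon (h.trans inf_le_right)⟩
  have hlt : ∀ L : Subgroup G, Q ≤ L → L ≤ K → L ≠ K → P ≤ normalizer (L : Set G) → L ≤ M := by
    intro L h1 h2 h3 h4
    by_contra h5
    exact h3 (eq_of_le_of_card_ge h2 (hmin L ⟨h1, h2.trans hKP, h4, h5⟩))
  have hKS : K ⊔ S = P := by
    by_contra h
    exact hKM (le_inf hKP ((le_sup_left).trans (hind _ le_sup_right (sup_le hKP F.syl.1) h)))
  set K' := Q ⊔ ⁅K, K⁆ with hK'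
  have hK'K : K' ≤ K := sup_le hQK (commutator_le_self K)
  have hK'n : P ≤ normalizer (K' : Set G) := fun g hg => mem_normalizer_of_cj (by
    rw [hK', cj, Subgroup.map_sup, map_commutator, ← cj, ← cj, cj_eq_self (le_normalizer_core P hg),
      cj_eq_self (hKn hg)])
  have hK'ne : K' ≠ K := by
    intro e
    apply hKM
    have h : bar P K = ⊥ := by
      refine eq_bot_of_perfect (le_antisymm (commutator_le_self _) ?_)
      have e' : K.subgroupOf P = Q.subgroupOf P ⊔ ⁅K.subgroupOf P, K.subgroupOf P⁆ := by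
        apply Subgroup.map_injective P.subtype_injective
        rw [Subgroup.map_sup, map_commutator, subgroupOf_map_subtype, subgroupOf_map_subtype, inf_eq_left.2 hKP,
          inf_eq_left.2 (pCoreOf_le P)]
        exact e.symm
      have hQ1 : (Q.subgroupOf P).map (qmap P) = ⊥ := (Subgroup.eq_bot_iff_forall _).2 (by
        rintro _ ⟨q, hq, rfl⟩; exact qmap_eq_one.2 hq)
      conv_lhs => rw [bar, e', Subgroup.map_sup, map_commutator, hQ1, bot_sup_eq, ← bar]
    intro x hx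
    exact hSM (hQS (qmap_eq_one.1 (mem_bot.1 (h ▸ (mem_bar hQK).2 hx : qmap P ⟨x, hKP hx⟩ ∈ ⊥))))
  have hK'M : K' ≤ M := hlt K' le_sup_left hK'K hK'ne hK'n
  have hSK : S ⊓ K = Q := by
    set L := K' ⊔ (S ⊓ K) with hL
    have hLK : L ≤ K := sup_le hK'K inf_le_right
    have hLn : P ≤ normalizer (L : Set G) := by
      rw [← hKS]
      refine sup_le (le_normalizer_of_conj fun g hg x hx => ?_) ((le_inf (F.syl.1.trans hK'n)
        (Cfsg.Lib.Coprime.le_normalizer_inf le_normalizer (F.syl.1.trans hKn))).trans fun g hg => ?_)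
      · rw [show g * x * g⁻¹ = ⁅g, x⁆ * x by rw [commutatorElement_def]; group]
        exact mul_mem (mem_sup_left (mem_sup_right (commutator_mem_commutator hg (hLK hx)))) hx
      · refine mem_normalizer_of_cj ?_
        rw [hL, cj, Subgroup.map_sup, ← cj, ← cj, cj_eq_self hg.1, cj_eq_self hg.2]
    have hLM : L ≤ M := by
      by_cases e : L = K
      · exact absurd (e ▸ sup_le hK'M (inf_le_left.trans hSM)) hKM
      · exact hlt L (le_sup_left.trans le_sup_left) hLK e hLn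
    refine le_antisymm ?_ (le_inf hQS hQK)
    rw [← hsmall L (le_sup_left.trans le_sup_left) hLM hLn]
    exact le_inf inf_le_left le_sup_right
  set K₁ := K ⊓ M with hK₁
  have hQK₁ : Q ≤ K₁ := le_inf hQK (hQS.trans hSM)
  have hKK₁ : ∀ k ∈ K, ∀ x ∈ K, ⁅k, x⁆ ∈ K₁ := fun k hk x hx =>
    le_inf hK'K hK'M (mem_sup_right (commutator_mem_commutator hk hx))
  have hK₁n : P ≤ normalizer (K₁ : Set G) := by
    rw [← hKS]
    refine sup_le (le_normalizer_of_conj fun g hg x hx => ?_)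
      (Cfsg.Lib.Coprime.le_normalizer_inf (F.syl.1.trans hKn) (hSM.trans le_normalizer))
    rw [show g * x * g⁻¹ = ⁅g, x⁆ * x by rw [commutatorElement_def]; group]
    exact mul_mem (hKK₁ g hg x (mem_inf.1 hx).1) hx
  have hK₁K : K₁ ≤ K := inf_le_left
  have hbarodd : Odd (Nat.card (bar P K)) := by
    rw [card_bar hQK hKP, ← hQ, ← hSK]
    exact (sylowIn_inf F.syl hKP hKn).2.2
  by_cases hall : ∀ A, MaxE S A → ∀ k ∈ K, ∀ a ∈ A, ⁅k, a⁆ ∈ K₁
  · apply hcon
    set L := K₁ ⊔ Jof S with hL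
    have hLn : P ≤ normalizer (L : Set G) := by
      rw [← hKS]
      refine sup_le (fun k hk => mem_normalizer_of_cj_le ?_) (fun s hs => mem_normalizer_of_cj ?_)
      · rw [hL, cj, Subgroup.map_sup, ← cj, cj_eq_self (hK₁n (hKP hk))]
        refine sup_le le_sup_left (map_le_iff_le_comap.2 (jof_le_iff.2 fun A hA a ha => ?_))
        show k * a * k⁻¹ ∈ L
        rw [show k * a * k⁻¹ = ⁅k, a⁆ * a by rw [commutatorElement_def]; group]
        exact mul_mem (mem_sup_left (hall A hA k hk a ha)) (mem_sup_right (maxE_le_jof hA ha))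
      · rw [hL, cj, Subgroup.map_sup, ← cj, ← cj, cj_eq_self (hK₁n (F.syl.1 hs)), ← jof_cj,
          cj_eq_self (le_normalizer hs)]
    have hJQ : Jof S ≤ Q := by
      rw [← hsmall L (hQK₁.trans le_sup_left) (sup_le inf_le_right ((jof_le S).trans hSM)) hLn]
      exact le_inf (jof_le S) le_sup_right
    refine (le_inf le_rfl fun g hg => ?_).trans hN
    refine mem_normalizer_of_cj ?_
    rw [← jof_eq_of_between hJQ hQS, ← jof_cj, cj_eq_self (le_normalizer_core P hg)]
  push Not at hall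
  obtain ⟨A, hA, k, hk, a₀, ha₀, hka⟩ := hall
  have hAP : A ≤ P := hA.1.trans F.syl.1
  obtain ⟨a₁, ha₁, r₀, hr₀, hr₀1, h1, h2⟩ := exists_inverted (K0 := bar P K₁) (bar_elem (P := P) hA.2.1)
    (bar_norm (hAP.trans hKn)) (bar_norm (hAP.trans hK₁n)) (map_mono (comap_mono hK₁K))
    (by
      refine commutator_le.2 ?_
      rintro _ ⟨x, hx, rfl⟩ _ ⟨y, hy, rfl⟩
      rw [← map_commutatorElement]
      refine (mem_bar hQK₁).2 ?_
      rw [show ((⁅x, y⁆ : P) : G) = ⁅(x : G), (y : G)⁆ from map_commutatorElement P.subtype x y]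
      exact hKK₁ _ hx _ hy)
    hbarodd
    ⟨qmap P ⟨k, hKP hk⟩, (mem_bar hQK).2 hk, qmap P ⟨a₀, hAP ha₀⟩, mem_map_of_mem _ (mem_subgroupOf.2 ha₀),
      fun h => hka (by
        rw [← map_commutatorElement] at h
        have := (mem_bar hQK₁).1 h
        rwa [show ((⁅(⟨k, hKP hk⟩ : P), ⟨a₀, hAP ha₀⟩⁆ : P) : G) = ⁅k, a₀⁆ from
          map_commutatorElement P.subtype _ _] at this)⟩
  obtain ⟨a, r, B, ha, ho, har, hBA, hd, hB, hr1, hr2⟩ := lift_pair hA.2.1 hAP ha₁ h1
    (Odd.of_dvd_nat hbarodd (Subgroup.orderOf_dvd_natCard _ hr₀)) h2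
  refine hr₀1 (zpowers_le.2 ((mem_bar hQK₁).2 ⟨(mem_bar hQK).1 (zpowers_le.2 hr₀ hr1), r.2, ?_⟩) hr2)
  exact F.fix_pair hA (hVJ.trans (centralizer_le (maxE_le_jof hA))) ha r.2 ho har hBA hd hB

end Cfsg.Lib.Stellmacher
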