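import Cfsg.Agent.JComp.Basic
import Cfsg.Agent.Components.Sfour.LocalThree
import Cfsg.Agent.Components.Misc.SmallOffender
import Cfsg.Agent.Components.PxQ

/-!
Basic facts for the solvable case of Stellmacher's theorem on groups without a section `S₄`:
the square bound as a predicate, elements of odd order inverted by an involution, and inverted
elements in an odd abelian section.
-/

set_option autoImplicit false
set_option linter.unusedSectionVars false
set_option linter.style.haveILetI false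

namespace Cfsg.Lib.Stellmacher

open Subgroup
open scoped commutatorElement
open Cfsg.Lib.JComp

universe u

variable {G : Type u} [Group G] [Finite G]

/-- Every subgroup of `R` acting on `V` as an elementary abelian group satisfies the square bound. -/
def Sq (R V : Subgroup G) : Prop :=
  ∀ Y : Subgroup G, Y ≤ R → (∀ y ∈ Y, y * y ∈ centralizer (V : Set G)) →
    (centralizer (V : Set G)).relIndex Y ^ 2 ≤ (centralizer (Y : Set G)).relIndex V

theorem relIndex_pos (H K : Subgroup G) : 0 < H.relIndex K := Nat.pos_of_ne_zero index_ne_zero_of_finite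

theorem relIndex_mul_card_inf (H K : Subgroup G) : H.relIndex K * Nat.card ↥(H ⊓ K) = Nat.card K := by
  rw [← inf_relIndex_right]
  exact Cfsg.Lib.SmallOffender.relIndex_mul_card' inf_le_right

theorem cj_centralizer (g : G) (V : Subgroup G) :
    cj g (centralizer (V : Set G)) = centralizer (cj g V : Set G) := by
  ext x
  rw [mem_cj, mem_centralizer_iff, mem_centralizer_iff]
  constructor
  · rintro h _ ⟨v, hv, rfl⟩
    show g * v * g⁻¹ * x = x * (g * v * g⁻¹)
    calc g * v * g⁻¹ * x = g * (v * (g⁻¹ * x * g)) * g⁻¹ := by group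
      _ = g * (g⁻¹ * x * g * v) * g⁻¹ := by rw [h v hv]
      _ = _ := by group
  · intro h v hv
    calc v * (g⁻¹ * x * g) = g⁻¹ * (g * v * g⁻¹ * x) * g := by group
      _ = g⁻¹ * (x * (g * v * g⁻¹)) * g := by rw [h _ (conj_mem_cj hv)]
      _ = _ := by group

theorem relIndex_cj (g : G) (H K : Subgroup G) : (cj g H).relIndex (cj g K) = H.relIndex K :=
  relIndex_map_map_of_injective H K (MulAut.conj g).injective

theorem Sq.mono {R R' V : Subgroup G} (h : Sq R V) (hR : R' ≤ R) : Sq R' V :=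
  fun Y hY hs => h Y (hY.trans hR) hs

theorem Sq.conj {R V : Subgroup G} (h : Sq R V) (g : G) : Sq (cj g R) (cj g V) := by
  intro Y hY hs
  have hY' : cj g⁻¹ Y ≤ R := by
    rw [← cj_inv_cj g R]
    exact map_mono hY
  have hs' : ∀ y ∈ cj g⁻¹ Y, y * y ∈ centralizer (V : Set G) := by
    rintro _ ⟨y, hy, rfl⟩
    rw [← cj_inv_cj g V, ← cj_centralizer]
    exact ⟨y * y, hs y hy, map_mul _ _ _⟩
  have := h (cj g⁻¹ Y) hY' hs'
  rwa [← relIndex_cj g, ← relIndex_cj g (centralizer (cj g⁻¹ Y : Set G)), cj_centralizer, cj_centralizer,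
    cj_cj_inv] at this

theorem sq_bot (R : Subgroup G) : Sq R ⊥ := by
  intro Y _ _
  have h : centralizer ((⊥ : Subgroup G) : Set G) = ⊤ :=
    eq_top_iff.2 fun x _ => mem_centralizer_iff.2 fun v hv => by
      rw [show v = 1 from mem_bot.1 hv, one_mul, mul_one]
  rw [h, relIndex_top_left, one_pow]
  exact relIndex_pos _ _

theorem centralizer_sup (V W : Subgroup G) :
    centralizer ((V ⊔ W : Subgroup G) : Set G) = centralizer (V : Set G) ⊓ centralizer (W : Set G) :=
  le_antisymm (le_inf (centralizer_le (le_sup_left : V ≤ V ⊔ W)) (centralizer_le (le_sup_right : W ≤ V ⊔ W)))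
    (le_centralizer_iff.2 (sup_le (le_centralizer_iff.1 inf_le_left) (le_centralizer_iff.1 inf_le_right)))

theorem Sq.sup {R V W : Subgroup G} (hV : Sq R V) (hW : Sq R W) : Sq R (V ⊔ W) := by
  intro Y hY hs
  rw [centralizer_sup]
  set CV := centralizer (V : Set G)
  set CW := centralizer (W : Set G)
  set Y1 := CV ⊓ Y
  have hs' : ∀ y ∈ Y, y * y ∈ CV ⊓ CW := fun y hy => by
    have := hs y hy
    rwa [centralizer_sup] at this
  have h1 : CV.relIndex Y ^ 2 ≤ (centralizer (Y : Set G)).relIndex V := hV Y hY fun y hy => (hs' y hy).1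
  have h2 : CW.relIndex Y1 ^ 2 ≤ (centralizer (Y1 : Set G)).relIndex W :=
    hW Y1 (inf_le_right.trans hY) fun y hy => (hs' y hy.2).2
  have e1 : (CV ⊓ CW).relIndex Y = CW.relIndex Y1 * CV.relIndex Y := by
    rw [relIndex_inf_mul_relIndex, inf_comm]
  have hle : centralizer (Y : Set G) ≤ centralizer (Y1 : Set G) := centralizer_le (inf_le_right : Y1 ≤ Y)
  have e2 : (centralizer (Y : Set G)).relIndex (V ⊔ W) =
      (centralizer (Y : Set G)).relIndex (centralizer (Y1 : Set G) ⊓ (V ⊔ W)) *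
        (centralizer (Y1 : Set G)).relIndex (V ⊔ W) := by
    rw [relIndex_inf_mul_relIndex, inf_eq_left.2 hle]
  have hV1 : V ≤ centralizer (Y1 : Set G) ⊓ (V ⊔ W) :=
    le_inf (le_centralizer_iff.1 inf_le_left) le_sup_left
  rw [e1, e2, mul_pow, mul_comm]
  exact Nat.mul_le_mul (h1.trans (relIndex_le_of_le_right hV1 index_ne_zero_of_finite))
    (h2.trans (relIndex_le_of_le_right le_sup_right index_ne_zero_of_finite))

theorem sq_finset_sup {R : Subgroup G} {ι : Type*} (s : Finset ι) (f : ι → Subgroup G)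
    (h : ∀ i ∈ s, Sq R (f i)) : Sq R (s.sup f) := by
  classical
  induction s using Finset.induction_on with
  | empty => rw [Finset.sup_empty]; exact sq_bot R
  | insert i s _ ih =>
    rw [Finset.sup_insert]
    exact (h i (Finset.mem_insert_self i s)).sup (ih fun j hj => h j (Finset.mem_insert_of_mem hj))

/-! ### odd order -/

/-- Commuting with `a` and with its conjugate by an inverted `r` means commuting with `r`. -/
theorem commute_of_inv {a r z : G} (ha : a * a = 1) (har : a * r * a⁻¹ = r⁻¹) (ho : Odd (orderOf r))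
    (h1 : a * z = z * a) (h2 : r * a * r⁻¹ * z = z * (r * a * r⁻¹)) : r * z = z * r := by
  have hai : a⁻¹ = a := inv_eq_of_mul_eq_one_right ha
  have e : r * a * r⁻¹ * a = r * r := by
    calc r * a * r⁻¹ * a = r * (a * r * a⁻¹)⁻¹ := by rw [hai]; simp [mul_assoc, hai]
      _ = r * r := by rw [har, inv_inv]
  have hm : r * r ∈ centralizer ({z} : Set G) := by
    rw [← e]
    exact mul_mem (mem_centralizer_singleton_iff.2 h2) (mem_centralizer_singleton_iff.2 h1)
  exact mem_centralizer_singleton_iff.1 (mem_of_odd_of_pow_mem ho (k := 1) (by rwa [pow_one, pow_two]))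

theorem perm_cube {X : Type*} [Finite X] (hc : Nat.card X ≤ 4) (f : Equiv.Perm X) {x₀ : X} (h0 : f x₀ = x₀)
    {m : ℕ} (hm : Odd m) (hf : f ^ m = 1) (x : X) : f (f (f x)) = x := by
  classical
  by_cases hx : x = x₀
  · subst hx; rw [h0, h0, h0]
  have hper : Function.IsPeriodicPt f m x := by
    show f^[m] x = x
    rw [← Equiv.Perm.coe_pow, hf, Equiv.Perm.one_apply]
  set d := Function.minimalPeriod f x
  have hdm : d ∣ m := hper.minimalPeriod_dvd
  have hd : d ≤ 3 := by
    have hne : ∀ k : ℕ, f^[k] x ≠ x₀ := fun k h => hx ((f.injective.iterate k)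
      (by rw [h, Function.iterate_fixed h0 k]))
    let j : Fin d → {y : X // y ≠ x₀} := fun k => ⟨f^[(k : ℕ)] x, hne k⟩
    have hj : Function.Injective j := fun k l h => Fin.ext (Function.iterate_injOn_Iio_minimalPeriod
      k.isLt l.isLt (congrArg Subtype.val h))
    have h1 := Nat.card_le_card_of_injective j hj
    rw [Nat.card_fin] at h1
    haveI := Fintype.ofFinite X
    have h2 : Fintype.card {y : X // y ≠ x₀} < Fintype.card X :=
      Fintype.card_subtype_lt (x := x₀) (fun h => h rfl)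
    rw [Nat.card_eq_fintype_card] at h1 hc
    omega
  have hodd : Odd d := Odd.of_dvd_nat hm hdm
  have h3 : d ∣ 3 := by
    obtain ⟨c, hc⟩ := hodd
    rcases (show d = 1 ∨ d = 3 by omega) with h | h <;> rw [h] <;> decide
  exact (Function.isPeriodicPt_minimalPeriod f x).trans_dvd h3

/-- An element of odd order moves nothing by its cube in a small section. -/
theorem cube_conj {K L : Subgroup G} {r : G} (hK : r ∈ normalizer (K : Set G))
    (hL : r ∈ normalizer (L : Set G)) (hc : L.relIndex K ≤ 4) (ho : Odd (orderOf r)) {x : G} (hx : x ∈ K) :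
    x⁻¹ * (r ^ 3 * x * (r ^ 3)⁻¹) ∈ L := by
  classical
  set e : Equiv.Perm K := Cfsg.Lib.Sfour.conjPerm K ⟨r, hK⟩ with he
  let f : Equiv.Perm (K ⧸ L.subgroupOf K) := Quotient.congr e (fun a b => by
    rw [QuotientGroup.leftRel_apply, QuotientGroup.leftRel_apply, mem_subgroupOf, mem_subgroupOf]
    simp only [Subgroup.coe_mul, InvMemClass.coe_inv, he, Cfsg.Lib.Sfour.coe_conjPerm]
    rw [show (r * (a : G) * r⁻¹)⁻¹ * (r * (b : G) * r⁻¹) = r * ((a : G)⁻¹ * b) * r⁻¹ by group]
    exact mem_normalizer_iff.1 hL _)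
  have hfe : ∀ a : K, f (QuotientGroup.mk a) = QuotientGroup.mk (e a) := fun a => rfl
  have hpow : ∀ (k : ℕ) (a : K), (f ^ k) (QuotientGroup.mk a) = QuotientGroup.mk ((e ^ k) a) := by
    intro k
    induction k with
    | zero => intro a; rfl
    | succ k ih => intro a; rw [pow_succ, pow_succ, Equiv.Perm.mul_apply, Equiv.Perm.mul_apply, hfe, ih]
  have hr : (⟨r, hK⟩ : normalizer (K : Set G)) ^ orderOf r = 1 := Subtype.ext (by simp [pow_orderOf_eq_one])
  have hf1 : f ^ orderOf r = 1 := by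
    refine Equiv.ext fun q => ?_
    obtain ⟨a, rfl⟩ := QuotientGroup.mk_surjective q
    rw [hpow, he, ← map_pow, hr, map_one]
    rfl
  have h0 : f (QuotientGroup.mk (1 : K)) = QuotientGroup.mk (1 : K) := by
    rw [hfe]
    congr 1
    exact Subtype.ext (by rw [he, Cfsg.Lib.Sfour.coe_conjPerm]; simp)
  have h := perm_cube hc f h0 ho hf1 (QuotientGroup.mk ⟨x, hx⟩)
  rw [hfe, hfe, hfe, eq_comm, QuotientGroup.eq, mem_subgroupOf] at h
  simp only [Subgroup.coe_mul, InvMemClass.coe_inv, he, Cfsg.Lib.Sfour.coe_conjPerm] at h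
  convert h using 1
  simp only [pow_succ, pow_zero]
  group

/-- An element of odd order fixing the moving part fixes everything. -/
theorem commute_of_stab {W : Subgroup G} (hW : IsPGroup 2 W) {s : G} (ho : Odd (orderOf s))
    (hs : s ∈ normalizer (W : Set G)) {w : G} (hw : w ∈ W) (hfix : s * ⁅s, w⁆ * s⁻¹ = ⁅s, w⁆) :
    s * w = w * s := by
  haveI : Fact (Nat.Prime 2) := ⟨Nat.prime_two⟩
  exact Cfsg.Lib.Components.centralize_of_commutator_fixed hW ho.coprime_two_right hs hw hfix

theorem cube_centralizes {W L : Subgroup G} (hW : IsPGroup 2 W) {r : G} (hr : r ∈ normalizer (W : Set G))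
    (hrL : ∀ z ∈ L, r * z = z * r) (hc : L.relIndex W ≤ 4) (ho : Odd (orderOf r)) :
    r ^ 3 ∈ centralizer (W : Set G) := by
  have hLn : r ∈ normalizer (L : Set G) :=
    centralizer_le_normalizer _ (mem_centralizer_iff.2 fun z hz => (hrL z hz).symm)
  refine mem_centralizer_iff.2 fun w hw => ((commute_of_stab hW (Odd.of_dvd_nat ho (orderOf_pow_dvd 3))
    (pow_mem hr 3) hw ?_)).symm
  have h := cube_conj hr hLn hc ho (inv_mem hw)
  rw [show w⁻¹⁻¹ * (r ^ 3 * w⁻¹ * (r ^ 3)⁻¹) = ⁅r ^ 3, w⁆⁻¹ by rw [commutatorElement_def]; group] at h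
  have hmem := inv_mem_iff.1 h
  rw [((show Commute r _ from hrL _ hmem).pow_left 3).eq, mul_inv_cancel_right]

/-- an inverted element of order three on a normal 2-subgroup of `P` gives a section `S₄` -/
theorem four_in {P T : Subgroup G} (hT : IsPGroup 2 T) (hTP : T ≤ P) {a r : G} (haP : a ∈ P) (hrP : r ∈ P)
    (han : a ∈ normalizer (T : Set G)) (hrn : r ∈ normalizer (T : Set G))
    (ha2 : a * a ∈ centralizer (T : Set G)) (har : a * r * a⁻¹ * r ∈ centralizer (T : Set G))
    (hr3 : r ^ 3 ∈ centralizer (T : Set G)) (hr : r ∉ centralizer (T : Set G)) :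
    Cfsg.Involves (Equiv.Perm (Fin 4)) P := by
  classical
  set T' := T.subgroupOf P with hT'
  set N := normalizer (T' : Set P) with hN
  have hmemN : ∀ g : G, ∀ hg : g ∈ P, g ∈ normalizer (T : Set G) → (⟨g, hg⟩ : P) ∈ N := by
    intro g hg hgn
    refine mem_normalizer_iff.2 fun y => ?_
    simp only [hT', mem_subgroupOf, Subgroup.coe_mul, InvMemClass.coe_inv]
    exact mem_normalizer_iff.1 hgn _
  have hmemC : ∀ g : P, (g : G) ∈ centralizer (T : Set G) ↔ g ∈ centralizer (T' : Set P) := by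
    intro g
    rw [mem_centralizer_iff, mem_centralizer_iff]
    exact ⟨fun h y hy => Subtype.ext (h _ (mem_subgroupOf.1 hy)),
      fun h y hy => congrArg Subtype.val (h ⟨y, hTP hy⟩ hy)⟩
  haveI : ((centralizer (T' : Set P)).subgroupOf N).Normal :=
    (normal_subgroupOf_iff_le_normalizer (Cfsg.Lib.Thompson.centralizer_le_normalizer T')).mpr
      (Cfsg.Lib.Thompson.normalizer_le_normalizer_centralizer T')
  set π := QuotientGroup.mk' ((centralizer (T' : Set P)).subgroupOf N)
  have hπ : ∀ g : N, π g = 1 ↔ ((g : P) : G) ∈ centralizer (T : Set G) := fun g => by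
    rw [hmemC]
    exact QuotientGroup.eq_one_iff g
  refine Cfsg.Lib.Sfour.involves_four_of_local (T := T')
    (hT.of_equiv (subgroupOfEquivOfLe hTP).symm) (Cfsg.Lib.SmallOffender.involves_perm_three
      (x := π ⟨⟨r, hrP⟩, hmemN r hrP hrn⟩) (a := π ⟨⟨a, haP⟩, hmemN a haP han⟩) ?_ ?_ ?_ ?_)
  · rw [← map_pow, hπ]; exact hr3
  · rw [← map_mul, hπ]; exact ha2
  · rw [← mul_eq_one_iff_eq_inv, ← map_inv, ← map_mul, ← map_mul, ← map_mul, hπ]; exact har
  · rw [Ne, hπ]; exact hr

/-! ### inverted elements in odd sections -/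

theorem exists_inverted {X : Type u} [Group X] [Finite X] {A K K0 : Subgroup X}
    (hA : Cfsg.IsElementaryAbelian 2 A) (hAK : A ≤ normalizer (K : Set X))
    (hAK0 : A ≤ normalizer (K0 : Set X)) (hK0 : K0 ≤ K) (hder : ⁅K, K⁆ ≤ K0) (hodd : Odd (Nat.card K))
    (h : ∃ k ∈ K, ∃ a ∈ A, ⁅k, a⁆ ∉ K0) :
    ∃ a ∈ A, ∃ r ∈ K, r ∉ K0 ∧ a * r * a⁻¹ = r⁻¹ ∧ ∀ b ∈ A, b * r = r * b ∨ a * b * r = r * (a * b) := by
  classical
  have hai : ∀ a ∈ A, a⁻¹ = a := fun a ha => elem_inv hA ha
  have hconjK : ∀ a ∈ A, ∀ x ∈ K, a * x * a ∈ K := fun a ha x hx => by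
    have := conj_mem (hAK ha) hx
    rwa [hai a ha] at this
  have hKn : ∀ k ∈ K, ∀ x ∈ K0, k * x * k⁻¹ ∈ K0 := fun k hk x hx => by
    rw [show k * x * k⁻¹ = ⁅k, x⁆ * x by rw [commutatorElement_def]; group]
    exact mul_mem (hder (commutator_mem_commutator hk (hK0 hx))) hx
  have hord : ∀ x ∈ K, Odd (orderOf x) := fun x hx => Odd.of_dvd_nat hodd (Subgroup.orderOf_dvd_natCard K hx)
  have hhalf : ∀ x ∈ K, x * x ∈ K0 → x ∈ K0 := fun x hx h2 =>
    mem_of_odd_of_pow_mem (hord x hx) (k := 1) (by rwa [pow_one, pow_two])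
  let 𝒞 : Set X := {y | y ∈ K ∧ y ∉ K0 ∧ ∃ a ∈ A, a * y * a = y⁻¹}
  obtain ⟨k, hk, a₀, ha₀, hka⟩ := h
  have hinv : ∀ x : X, ∀ a ∈ A, a * (x * a * x⁻¹ * a) * a = (x * a * x⁻¹ * a)⁻¹ := fun x a ha => by
    have h2 := elem_sq hA ha
    calc a * (x * a * x⁻¹ * a) * a = a * x * a * x⁻¹ * (a * a) := by group
      _ = a⁻¹ * x * a⁻¹ * x⁻¹ := by rw [h2, mul_one, hai a ha]
      _ = _ := by group
  have hne : 𝒞.Nonempty := by
    have e : ⁅k, a₀⁆ = k * a₀ * k⁻¹ * a₀ := by rw [commutatorElement_def, hai _ ha₀]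
    refine ⟨k * a₀ * k⁻¹ * a₀, ?_, e ▸ hka, a₀, ha₀, hinv k a₀ ha₀⟩
    rw [mul_assoc, mul_assoc, ← mul_assoc a₀]
    exact mul_mem hk (hconjK _ ha₀ _ (inv_mem hk))
  obtain ⟨y, ⟨hyK, hy0, a, ha, hay⟩, hmax⟩ := Set.exists_max_image 𝒞
    (fun y => Nat.card ↥(A ⊓ centralizer ({y} : Set X))) (Set.toFinite _) hne
  have ha2 := elem_sq hA ha
  -- the elements inverted by `a` modulo `K0`
  let I : Subgroup X :=
    { carrier := {x | x ∈ K ∧ a * x * a * x ∈ K0}
      one_mem' := ⟨one_mem _, by simp [ha2]⟩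
      mul_mem' := fun {u v} hu hv => ⟨mul_mem hu.1 hv.1, by
        have e : a * (u * v) * a * (u * v) = (a * u * a * u) * ⁅u⁻¹, a * v * a⁆ * (a * v * a * v) := by
          rw [commutatorElement_def]
          calc a * (u * v) * a * (u * v) = a * u * (a * a) * v * a * u * v := by rw [ha2]; group
            _ = _ := by group
        rw [e]
        exact mul_mem (mul_mem hu.2 (hder (commutator_mem_commutator (inv_mem hu.1) (hconjK a ha v hv.1)))) hv.2⟩
      inv_mem' := fun {u} hu => ⟨inv_mem hu.1, by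
        have e : a * u⁻¹ * a * u⁻¹ = (a * u * a)⁻¹ * (a * u * a * u)⁻¹ * (a * u * a)⁻¹⁻¹ := by
          conv_lhs => rw [← hai a ha]
          group
        rw [e]
        exact hKn _ (inv_mem (hconjK a ha u hu.1)) _ (inv_mem hu.2)⟩ }
  have hmemI : ∀ x ∈ K, a * x * a = x⁻¹ → x ∈ I := fun x hx h => ⟨hx, by rw [h, inv_mul_cancel]; exact one_mem _⟩
  -- an element not commuting with `y` inverts it modulo `K0`
  have key : ∀ b ∈ A, b * y ≠ y * b → b * y * b * y ∈ K0 := by
    intro b hb hby
    have hb2 := elem_sq hA hb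
    have hab := elem_comm hA ha hb
    set i0 := y⁻¹ * (b * y * b) with hi0
    have hi0K : i0 ∈ K := mul_mem (inv_mem hyK) (hconjK b hb y hyK)
    have hi0I : i0 ∈ I := by
      refine mul_mem (inv_mem (hmemI y hyK hay)) (hmemI _ (hconjK b hb y hyK) ?_)
      calc a * (b * y * b) * a = (a * b) * y * (b * a) := by group
        _ = (b * a) * y * (a * b) := by rw [hab]
        _ = b * (a * y * a) * b := by group
        _ = b⁻¹ * y⁻¹ * b⁻¹ := by rw [hay, hai b hb]
        _ = _ := by group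
    obtain ⟨c, hc⟩ := hord i0 hi0K
    set t := i0 ^ (c + 1) with ht
    have htt : t * t = i0 := by
      rw [ht, ← pow_add, show c + 1 + (c + 1) = orderOf i0 + 1 by omega, pow_succ, pow_orderOf_eq_one, one_mul]
    have hbi : b * i0 * b = i0⁻¹ := by
      rw [hi0]
      calc b * (y⁻¹ * (b * y * b)) * b = b * y⁻¹ * b * y * (b * b) := by group
        _ = b⁻¹ * y⁻¹ * b⁻¹ * y := by rw [hb2, mul_one, hai b hb]
        _ = _ := by group
    have hbt : b * t * b = t⁻¹ := by
      have h1 : b * i0 * b⁻¹ = i0⁻¹ := by rw [hai b hb]; exact hbi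
      conv_lhs => arg 2; rw [← hai b hb]
      rw [ht, ← conj_pow, h1, inv_pow]
    set w := y * t with hw
    have hwI : w ∈ I := mul_mem (hmemI y hyK hay) (pow_mem hi0I _)
    have hbw : b * w * b = w := by
      rw [hw]
      calc b * (y * t) * b = b * y * (b * b) * t * b := by rw [hb2]; group
        _ = (y * i0) * (b * t * b) := by rw [hi0]; group
        _ = y * (t * t) * t⁻¹ := by rw [htt, hbt]
        _ = _ := by group
    by_contra hcon
    have hw0 : w ∉ K0 := by
      intro hw0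
      apply hcon
      have e : b * y * b * y = w * (y⁻¹ * w * y⁻¹⁻¹) := by
        rw [show b * y * b = y * i0 by rw [hi0]; group, ← htt, hw]; group
      rw [e]
      exact mul_mem hw0 (hKn _ (inv_mem hyK) _ hw0)
    set w' := w * a * w⁻¹ * a with hw'
    have hw'K : w' ∈ K := by
      rw [hw', mul_assoc, mul_assoc, ← mul_assoc a]
      exact mul_mem hwI.1 (hconjK a ha _ (inv_mem hwI.1))
    have hw'0 : w' ∉ K0 := by
      intro h0
      refine hw0 (hhalf w hwI.1 ?_)
      have h1 := (inv_mem hwI : w⁻¹ ∈ I).2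
      have e : w * w = (w * (a * w⁻¹ * a * w⁻¹) * w⁻¹)⁻¹ * w' := by rw [hw', ← pow_two]; group
      rw [e]
      exact mul_mem (inv_mem (hKn w hwI.1 _ h1)) h0
    have hle : A ⊓ centralizer ({y} : Set X) < A ⊓ centralizer ({w'} : Set X) := by
      have hcomm : ∀ u ∈ A, u * w = w * u → u ∈ centralizer ({w'} : Set X) := fun u hu huw => by
        refine mem_centralizer_singleton_iff.2 ?_
        exact (((show Commute u w from huw).mul_right (elem_comm hA hu ha)).mul_right
          (show Commute u w from huw).inv_right).mul_right (elem_comm hA hu ha)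
      refine lt_of_le_not_ge (fun u hu => ?_) fun hge => hby ?_
      · have huy : Commute u y := mem_centralizer_singleton_iff.1 hu.2
        have hub : Commute u b := elem_comm hA hu.1 hb
        have hui : Commute u i0 := huy.inv_right.mul_right ((hub.mul_right huy).mul_right hub)
        exact ⟨hu.1, hcomm u hu.1 (huy.mul_right (hui.pow_right _)).eq⟩
      · have hbw' : b * w = w * b := by
          calc b * w = b * w * (b * b) := by rw [hb2, mul_one]
            _ = (b * w * b) * b := by group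
            _ = _ := by rw [hbw]
        exact mem_centralizer_singleton_iff.1 (hge ⟨hb, hcomm b hb hbw'⟩).2
    have h1 := hmax w' ⟨hw'K, hw'0, a, ha, hinv w a ha⟩
    exact hle.ne (eq_of_le_of_card_ge hle.le h1)
  refine ⟨a, ha, y, hyK, hy0, by rw [hai a ha]; exact hay, fun b hb => ?_⟩
  by_contra hne
  push Not at hne
  obtain ⟨h1, h2⟩ := hne
  have k1 := key b hb h1
  have k2 := key (a * b) (mul_mem ha hb) h2
  have e : a * b * y * (a * b) = (b * y * b)⁻¹ := by
    calc a * b * y * (a * b) = (b * a) * y * (a * b) := by rw [elem_comm hA ha hb]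
      _ = b * (a * y * a) * b := by group
      _ = b⁻¹ * y⁻¹ * b⁻¹ := by rw [hay, hai b hb]
      _ = _ := by group
  rw [e] at k2
  refine hy0 (hhalf y hyK ?_)
  have hby : b * y * b ∈ K := hconjK b hb y hyK
  have e3 : y * y = ((b * y * b)⁻¹ * ((b * y * b * y)) * (b * y * b)⁻¹⁻¹) * ((b * y * b)⁻¹ * y)⁻¹⁻¹ := by group
  rw [e3]
  exact mul_mem (hKn _ (inv_mem hby) _ k1) (by rw [inv_inv]; exact k2)

end Cfsg.Lib.Stellmacher
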