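import Cfsg.Agent.Stellmacher.Step

/-!
The square bound on a module generated by conjugates of elements centralised by a Sylow 2-subgroup.
-/

set_option autoImplicit false
set_option linter.unusedSectionVars false
set_option linter.style.haveILetI false

namespace Cfsg.Lib.Stellmacher

open Subgroup
open scoped commutatorElement
open Cfsg.Lib.JComp

universe u

variable {G : Type u} [Group G] [Finite G]

theorem centralizer_subgroupOf {H V : Subgroup G} (hVH : V ≤ H) :
    centralizer (V.subgroupOf H : Set H) = (centralizer (V : Set G)).subgroupOf H := by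
  ext g
  rw [mem_subgroupOf, mem_centralizer_iff, mem_centralizer_iff]
  exact ⟨fun h v hv => congrArg Subtype.val (h ⟨v, hVH hv⟩ hv),
    fun h v hv => Subtype.ext (h _ (mem_subgroupOf.1 hv))⟩

theorem le_normalizer_ffcore {X : Type*} [Group X] [Finite X] (K : Subgroup X) :
    K ≤ normalizer (Cfsg.Lib.FF.core 2 K : Set X) := by
  refine le_normalizer_of_conj ?_
  rintro h hh _ ⟨x, hx, rfl⟩
  exact ⟨⟨h, hh⟩ * x * ⟨h, hh⟩⁻¹, (Cfsg.Lib.Components.pPrimeCore_normal' 2).conj_mem x hx _, rfl⟩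

/-- The 2-core of the induced group is trivial. -/
theorem core_quot_trivial {H D V Z : Subgroup G} (hD : Cfsg.IsSylowTwoIn D H)
    (hVH : V ≤ H) [(V.subgroupOf H).Normal] (hZV : Z ≤ V) (hDZ : D ≤ centralizer (Z : Set G))
    (hgen : ∀ C : Subgroup G, (∀ h ∈ H, ∀ z ∈ Z, h * z * h⁻¹ ∈ C) → V ≤ C) :
    Cfsg.pCore 2 (H ⧸ centralizer (V.subgroupOf H : Set H)) = ⊥ := by
  haveI : Fact (Nat.Prime 2) := ⟨Nat.prime_two⟩
  set C := centralizer (V.subgroupOf H : Set H) with hC
  set M := Cfsg.pCore 2 (H ⧸ C)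
  haveI : M.Normal := Cfsg.Lib.Components.pCore_normal' 2
  set L := M.comap (QuotientGroup.mk' C) with hL
  haveI : L.Normal := Subgroup.normal_comap _
  have hCL : C ≤ L := (QuotientGroup.ker_mk' C).ge.trans (ker_le_comap _ _)
  have hmap : L.map (QuotientGroup.mk' C) = M := map_comap_eq_self_of_surjective (QuotientGroup.mk'_surjective C) M
  have hidx : C.relIndex L = Nat.card M := by
    have h := relIndex_comap (⊥ : Subgroup (H ⧸ C)) (QuotientGroup.mk' C) L
    rwa [MonoidHom.comap_bot, QuotientGroup.ker_mk', hmap, relIndex_bot_left] at h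
  have hT : Cfsg.IsSylowTwoIn (D.subgroupOf H) (⊤ : Subgroup H) :=
    ⟨le_top, hD.2.1.of_equiv (subgroupOfEquivOfLe hD.1).symm, by rw [relIndex_top_right]; exact hD.2.2⟩
  have hodd : Odd ((D.subgroupOf H ⊓ L).relIndex L) :=
    (sylowIn_inf hT le_top ((Subgroup.normalizer_eq_top_iff (H := L)).2 inferInstance).ge).2.2
  have hz : ∀ z ∈ Z, ∀ g ∈ L, (g : G) * z = z * g := by
    intro z hz
    set Cz := centralizer ({(⟨z, hVH (hZV hz)⟩ : H)} : Set H)
    have h1 : C ≤ Cz := fun g hg => mem_centralizer_singleton_iff.2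
      (mem_centralizer_iff.1 hg ⟨z, hVH (hZV hz)⟩ (mem_subgroupOf.2 (hZV hz))).symm
    have h2 : D.subgroupOf H ⊓ L ≤ Cz := fun g hg => mem_centralizer_singleton_iff.2
      (Subtype.ext (mem_centralizer_iff.1 (hDZ (mem_subgroupOf.1 (mem_inf.1 hg).1)) z hz).symm)
    obtain ⟨k, hk⟩ := IsPGroup.iff_card.1 (Cfsg.Lib.Components.isPGroup_pCore (G := H ⧸ C) 2)
    have h3 : Cz.relIndex L = 1 := by
      have ha : Cz.relIndex L ∣ 2 ^ k := by
        rw [← hk, ← hidx]
        exact relIndex_dvd_of_le_left L h1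
      have hb : Cz.relIndex L ∣ (D.subgroupOf H ⊓ L).relIndex L := relIndex_dvd_of_le_left L h2
      exact Nat.eq_one_of_dvd_coprimes ((Odd.of_dvd_nat hodd (dvd_refl _)).coprime_two_right.pow_right k) hb ha
    intro g hg
    exact congrArg Subtype.val (mem_centralizer_singleton_iff.1 (relIndex_eq_one.1 h3 hg))
  have hLC : L ≤ C := by
    intro g hg
    rw [hC, centralizer_subgroupOf hVH, mem_subgroupOf, mem_centralizer_iff]
    have hV : V ≤ centralizer ({(g : G)} : Set G) := hgen _ fun h hh z hz' => by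
      refine mem_centralizer_singleton_iff.2 ?_
      have hg' : (⟨h, hh⟩ : H)⁻¹ * g * (⟨h, hh⟩ : H)⁻¹⁻¹ ∈ L := (inferInstance : L.Normal).conj_mem g hg _
      have e := hz z hz' _ hg'
      simp only [inv_inv, Subgroup.coe_mul, InvMemClass.coe_inv] at e
      calc h * z * h⁻¹ * g = h * (z * (h⁻¹ * g * h)) * h⁻¹ := by group
        _ = h * (h⁻¹ * g * h * z) * h⁻¹ := by rw [e]
        _ = g * (h * z * h⁻¹) := by group
    exact fun v hv => mem_centralizer_singleton_iff.1 (hV hv)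
  refine card_eq_one.1 ?_
  rw [← hidx]
  exact relIndex_eq_one.2 hLC

/-- The square bound. -/
theorem sq_of_generated {H D V Z : Subgroup G} (hH : Good H) (hD : Cfsg.IsSylowTwoIn D H)
    (hHV : H ≤ normalizer (V : Set G)) (hVe : Cfsg.IsElementaryAbelian 2 V) (hVH : V ≤ H) (hZV : Z ≤ V)
    (hDZ : D ≤ centralizer (Z : Set G))
    (hgen : ∀ C : Subgroup G, (∀ h ∈ H, ∀ z ∈ Z, h * z * h⁻¹ ∈ C) → V ≤ C) : Sq D V := by
  classical
  haveI : Fact (Nat.Prime 2) := ⟨Nat.prime_two⟩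
  haveI := hH.solv
  haveI : (V.subgroupOf H).Normal := normal_subgroupOf_of_le_normalizer hHV
  set W := V.subgroupOf H with hW
  set r := Cfsg.Lib.FF.rho W with hr
  set Hm := (⊤ : Subgroup H).map r with hHm
  have hset : Cfsg.Lib.FF.Setup 2 (Cfsg.Lib.FF.vx W) Hm :=
    Cfsg.Lib.FF.setup_model _ (Cfsg.Lib.Blocks.isPSolvable_of_solvable inferInstance)
      (elem_of_sq fun v hv => Subtype.ext (elem_sq hVe (mem_subgroupOf.1 hv)))
      (core_quot_trivial hD hVH hZV hDZ hgen) ⊤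
  intro Y hY hYs
  have hYH : Y ≤ H := hY.trans hD.1
  set Y' := Y.subgroupOf H with hY'
  set A := Y'.map r with hA
  have hkerW : r.ker = (centralizer (V : Set G)).subgroupOf H := by
    rw [hr, Cfsg.Lib.FF.ker_rho, hW, centralizer_subgroupOf hVH]
  have hAe : Cfsg.IsElementaryAbelian 2 A := elem_of_sq (by
    rintro _ ⟨y, hy, rfl⟩
    rw [← map_mul, ← MonoidHom.mem_ker, hkerW, mem_subgroupOf]
    exact hYs _ (mem_subgroupOf.1 hy))
  set O := Cfsg.Lib.FF.core 2 Hm with hO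
  have hOH : O ≤ Hm := map_subtype_le _
  have hOodd : Odd (Nat.card O) := by
    rw [hO, Cfsg.Lib.FF.core, card_map_of_injective Hm.subtype_injective]
    exact Nat.coprime_two_right.1 (Cfsg.Lib.Components.coprime_card_pPrimeCore 2)
  have hHO : Hm ≤ normalizer (O : Set _) := le_normalizer_ffcore Hm
  have hAH : A ≤ Hm := map_mono le_top
  have hOf : O ⊓ centralizer (Cfsg.Lib.FF.vx W : Set _) = ⊥ := (Subgroup.eq_bot_iff_forall _).2
    fun x hx => hset.faith x (hOH hx.1) fun v hv => (mem_centralizer_iff.1 hx.2 v hv).symm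
  have hAf : A ⊓ centralizer (O : Set _) = ⊥ := (Subgroup.eq_bot_iff_forall _).2 fun x hx =>
    eq_one_of_odd (elem_isPGroup hAe) hx.1 (Odd.of_dvd_nat hOodd (Subgroup.orderOf_dvd_natCard O
      (hset.self x (hAH hx.1) (mem_centralizer_iff.1 hx.2))))
  have hns : ∀ a ∈ A, ∀ x ∈ O, orderOf x = 3 → a * x * a⁻¹ = x⁻¹ → False := by
    rintro _ ⟨y, hy, rfl⟩ x hx h3 hinv
    obtain ⟨g, -, rfl⟩ := hOH hx
    have hker : ∀ w : H, r w = 1 ↔ (w : G) ∈ centralizer (V : Set G) := fun w => by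
      rw [← MonoidHom.mem_ker, hkerW, mem_subgroupOf]
    refine hH.four (four_in (T := V) (elem_isPGroup hVe) hVH y.2 g.2 (hHV y.2) (hHV g.2)
      (hYs _ (mem_subgroupOf.1 hy)) ((hker (y * g * y⁻¹ * g)).1 ?_) ((hker (g ^ 3)).1 ?_) fun h => ?_)
    · rw [map_mul, map_mul, map_mul, map_inv, hinv, inv_mul_cancel]
    · rw [map_pow, ← h3, pow_orderOf_eq_one]
    · rw [(hker g).2 h, orderOf_one] at h3
      omega
  have key := Cfsg.Lib.SmallOffender.sq_card_le_relIndex hset.elem (hOH.trans hset.norm) hOf hOodd A hAe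
    (hAH.trans hset.norm) (hAH.trans hHO) hAf hns
  have hcA : Nat.card A = (centralizer (V : Set G)).relIndex Y := by
    refine Nat.eq_of_mul_eq_mul_right (Nat.card_pos (α := ↥(r.ker ⊓ Y'))) ?_
    rw [← relIndex_subgroupOf hYH, ← hkerW, relIndex_mul_card_inf, inf_comm r.ker Y']
    exact (Cfsg.Lib.FF.card_eq_map_mul r Y').symm
  have hfx : Cfsg.Lib.FF.fx W Y' = (centralizer (Y : Set G) ⊓ V).subgroupOf H := by
    ext v
    rw [Cfsg.Lib.FF.mem_fx, mem_subgroupOf, mem_subgroupOf, mem_inf, mem_centralizer_iff, and_comm]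
    exact and_congr ⟨fun hc b hb => congrArg Subtype.val (hc ⟨b, hYH hb⟩ hb),
      fun hc b hb => Subtype.ext (hc b hb)⟩ Iff.rfl
  have hrhs : (Cfsg.Lib.FF.vx W ⊓ centralizer (A : Set _)).relIndex (Cfsg.Lib.FF.vx W) =
      (centralizer (Y : Set G)).relIndex V := by
    refine Nat.eq_of_mul_eq_mul_right (Nat.card_pos (α := ↥(centralizer (Y : Set G) ⊓ V))) ?_
    rw [relIndex_mul_card_inf, ← Nat.card_congr (subgroupOfEquivOfLe (inf_le_right.trans hVH :
      centralizer (Y : Set G) ⊓ V ≤ H)).toEquiv, ← hfx, ← Cfsg.Lib.FF.card_fx_map,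
      ← hr, ← hA, Cfsg.Lib.FF.fx, Cfsg.Lib.SmallOffender.relIndex_mul_card' inf_le_left, Cfsg.Lib.FF.vx,
      ← Nat.card_congr (MonoidHom.ofInjective SemidirectProduct.inl_injective).toEquiv]
    exact Nat.card_congr (subgroupOfEquivOfLe hVH).toEquiv
  rwa [hcA, hrhs] at key

end Cfsg.Lib.Stellmacher
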